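import Cfsg.Agent.Lib.PLength.Primitive
import Mathlib.RepresentationTheory.Basic
import Mathlib.LinearAlgebra.FiniteDimensional.Basic
import Mathlib.Algebra.CharP.Basic
import Mathlib.Algebra.Polynomial.Eval.Degree
import Mathlib.Algebra.Field.ZMod

/-!
# The module given by conjugation on a normal elementary abelian subgroup
-/

set_option autoImplicit false

namespace CfsgLib.PLength

open Subgroup

universe u

variable {G : Type u} [Group G] {p : ℕ} {V : Subgroup G}

/-- A normal elementary abelian `p`-subgroup. -/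
structure ElemNormal (p : ℕ) (V : Subgroup G) : Prop where
  normal : V.Normal
  comm : ∀ a ∈ V, ∀ b ∈ V, a * b = b * a
  exponent : ∀ a ∈ V, a ^ p = 1

theorem IsPrimitiveConfig.elemNormal [Finite G] [Fact p.Prime] {M : Subgroup G}
    (h : IsPrimitiveConfig p V M) : ElemNormal p V :=
  ⟨h.normal, h.comm, h.exponent⟩

variable (h : ElemNormal p V)

/-- A normal elementary abelian subgroup as a vector space over `ZMod p`. -/
@[nolint unusedArguments]
def ElemNormal.Space (_h : ElemNormal p V) : Type u := Additive V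

noncomputable instance : AddCommGroup h.Space :=
  { (inferInstance : AddGroup (Additive V)) with
    add_comm := fun a b => Additive.toMul.injective (Subtype.ext
      (h.comm _ (Additive.toMul (α := V) a).2 _ (Additive.toMul (α := V) b).2)) }

/-- The vector of an element. -/
def ElemNormal.vec : V ≃ h.Space := Additive.ofMul

theorem ElemNormal.vec_mul (a b : V) : h.vec (a * b) = h.vec a + h.vec b := rfl

theorem ElemNormal.vec_one : h.vec 1 = 0 := rfl

theorem ElemNormal.symm_add (a b : h.Space) :
    h.vec.symm (a + b) = h.vec.symm a * h.vec.symm b := rfl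

theorem ElemNormal.vec_eq_zero {a : V} : h.vec a = 0 ↔ a = 1 := h.vec.injective.eq_iff' h.vec_one

theorem ElemNormal.vec_inv (a : V) : h.vec a⁻¹ = -h.vec a := rfl

theorem ElemNormal.vec_pow (a : V) (m : ℕ) : h.vec (a ^ m) = m • h.vec a := by
  induction m with
  | zero => rw [pow_zero, zero_smul, h.vec_one]
  | succ m ih => rw [pow_succ, h.vec_mul, ih, succ_nsmul]

noncomputable instance : Module (ZMod p) h.Space :=
  AddCommGroup.zmodModule fun a => by
    obtain ⟨a, rfl⟩ := h.vec.surjective a
    rw [← h.vec_pow, h.vec_eq_zero]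
    exact Subtype.ext (h.exponent a a.2)

instance [Finite G] : Finite h.Space := Finite.of_equiv V h.vec

instance [Finite G] [Fact p.Prime] : FiniteDimensional (ZMod p) h.Space := Module.Finite.of_finite

/-- Conjugation on the vector space. -/
noncomputable def ElemNormal.conjRep : Representation (ZMod p) G h.Space where
  toFun g := (AddMonoidHom.mk' (fun a => h.vec ⟨g * (h.vec.symm a : G) * g⁻¹,
      h.normal.conj_mem _ (h.vec.symm a).2 g⟩) fun a b => by
    rw [← h.vec_mul]
    congr 1
    refine Subtype.ext ?_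
    rw [h.symm_add]
    push_cast
    group).toZModLinearMap p
  map_one' := by
    refine LinearMap.ext fun a => ?_
    show h.vec _ = a
    conv_rhs => rw [← h.vec.apply_symm_apply a]
    congr 1
    exact Subtype.ext (by simp)
  map_mul' g g' := by
    refine LinearMap.ext fun a => ?_
    show h.vec _ = h.vec _
    congr 1
    refine Subtype.ext ?_
    show g * g' * (h.vec.symm a : G) * (g * g')⁻¹
      = g * (h.vec.symm (h.vec _) : G) * g⁻¹
    rw [Equiv.symm_apply_apply]
    group

theorem ElemNormal.conjRep_vec (g : G) (a : V) :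
    h.conjRep g (h.vec a) = h.vec ⟨g * a * g⁻¹, h.normal.conj_mem a a.2 g⟩ := by
  show h.vec _ = _
  congr 1

theorem ElemNormal.conjRep_sub_one_vec (g : G) (a : V) :
    (h.conjRep g - 1) (h.vec a)
      = h.vec ⟨g * a * g⁻¹ * (a : G)⁻¹, mul_mem (h.normal.conj_mem a a.2 g) (inv_mem a.2)⟩ := by
  rw [LinearMap.sub_apply, Module.End.one_apply, h.conjRep_vec, sub_eq_add_neg, ← h.vec_inv, ← h.vec_mul]
  rfl

theorem ElemNormal.conjRep_eq_one {g : G} : h.conjRep g = 1 ↔ ∀ a ∈ V, g * a = a * g := by
  refine ⟨fun e a ha => ?_, fun e => LinearMap.ext fun a => ?_⟩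
  · have := LinearMap.congr_fun e (h.vec ⟨a, ha⟩)
    rw [h.conjRep_vec, Module.End.one_apply] at this
    exact mul_inv_eq_iff_eq_mul.1 (congrArg Subtype.val (h.vec.injective this))
  · obtain ⟨a, rfl⟩ := h.vec.surjective a
    rw [h.conjRep_vec, Module.End.one_apply]
    exact congrArg h.vec (Subtype.ext (mul_inv_eq_iff_eq_mul.2 (e a a.2)))

open scoped Classical in
theorem ElemNormal.mul_pow_eq (g : G) (a : V) (m : ℕ) : ((a : G) * g) ^ m =
    (h.vec.symm ((∑ i ∈ Finset.range m, h.conjRep g ^ i) (h.vec a)) : G) * g ^ m := by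
  induction m with
  | zero => simp [show h.vec.symm 0 = 1 from rfl]
  | succ m ih =>
    rw [pow_succ, ih, Finset.sum_range_succ, LinearMap.add_apply, h.symm_add, Subgroup.coe_mul,
      ← map_pow, h.conjRep_vec, Equiv.symm_apply_apply, pow_succ]
    group

open Polynomial in
theorem sum_pow_eq_sub_one_pow {R : Type*} [Ring R] [Algebra (ZMod p) R] [Fact p.Prime] (f : R) (n : ℕ) :
    ∑ i ∈ Finset.range (p ^ n), f ^ i = (f - 1) ^ (p ^ n - 1) := by
  have key : (∑ i ∈ Finset.range (p ^ n), (X : (ZMod p)[X]) ^ i) = (X - C 1) ^ (p ^ n - 1) := by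
    refine mul_right_cancel₀ (X_sub_C_ne_zero (1 : ZMod p)) ?_
    rw [← pow_succ, Nat.sub_add_cancel (Nat.one_le_pow n p (Fact.out : p.Prime).pos), map_one,
      geom_sum_mul, sub_pow_char_pow, one_pow]
  have := congrArg (aeval f) key
  simpa using this

end CfsgLib.PLength
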