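import Cfsg.Prelude.Def_Local
import Cfsg.Agent.Lib.Solvable.PCore
import Mathlib.GroupTheory.PGroup

/-!
# `p`-length through arbitrary `p`-series

`PSeriesLE p k G` says that `G` has a normal series with `2k+1` steps, alternately `p'`-factors and
`p`-factors. It is equivalent to `Cfsg.PLengthLE p k G` and passes easily to subgroups, quotients,
subdirect products and extensions.
-/

set_option autoImplicit false

namespace CfsgLib.PLength

open Subgroup

universe u v

/-- The prime divisors of `m` are of the type demanded at position `i`. -/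
def StepType (p i m : ℕ) : Prop := ∀ r : ℕ, r.Prime → r ∣ m → (r = p ↔ Odd i)

theorem StepType.of_dvd {p i m m' : ℕ} (h : StepType p i m) (hd : m' ∣ m) : StepType p i m' :=
  fun r hr hrm => h r hr (hrm.trans hd)

theorem stepType_one (p i : ℕ) : StepType p i 1 :=
  fun r hr h => absurd (Nat.dvd_one.1 h) hr.ne_one

theorem StepType.mul {p i m n : ℕ} (h : StepType p i m) (h' : StepType p i n) :
    StepType p i (m * n) :=
  fun r hr h'' => (hr.dvd_mul.1 h'').elim (h r hr) (h' r hr)

theorem StepType.congr {p i j m : ℕ} (h : StepType p i m) (hij : Odd i ↔ Odd j) : StepType p j m :=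
  fun r hr hrm => (h r hr hrm).trans hij

theorem stepType_even_iff {p i m : ℕ} (hp : p.Prime) (hi : Even i) :
    StepType p i m ↔ m.Coprime p := by
  have hi' : ¬ Odd i := Nat.not_odd_iff_even.2 hi
  refine ⟨fun h => Nat.coprime_comm.1 (hp.coprime_iff_not_dvd.2 fun hd => hi' ((h p hp hd).1 rfl)),
    fun h r hr hd => ⟨fun e => absurd (e ▸ hd) (hp.coprime_iff_not_dvd.1 h.symm), fun h' => absurd h' hi'⟩⟩

theorem stepType_odd_iff {p i m : ℕ} (hp : p.Prime) (hi : Odd i) (hm : m ≠ 0) :
    StepType p i m ↔ ∃ k, m = p ^ k := by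
  refine ⟨fun h => ⟨m.factorization p, ?_⟩, ?_⟩
  · by_contra hne
    obtain ⟨r, hr, hrd⟩ := Nat.exists_prime_and_dvd (n := m / p ^ m.factorization p) fun h1 => hne (by
      have := Nat.div_mul_cancel (Nat.ordProj_dvd m p)
      rw [h1, one_mul] at this
      exact this.symm)
    have hrp := (h r hr (hrd.trans (Nat.ordCompl_dvd m p))).2 hi
    exact Nat.not_dvd_ordCompl hp hm (hrp ▸ hrd)
  · rintro ⟨k, rfl⟩ r hr hrd
    exact ⟨fun _ => hi, fun _ => (Nat.prime_dvd_prime_iff_eq hr hp).1 (hr.dvd_of_dvd_pow hrd)⟩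

/-- A normal series of `G` whose `i`-th factor is a `p`-group for odd `i` and a `p'`-group for
even `i`, reaching `G` at position `2k+1`. -/
structure IsPSeries (p k : ℕ) {G : Type*} [Group G] (H : ℕ → Subgroup G) : Prop where
  zero : H 0 = ⊥
  last : H (2 * k + 1) = ⊤
  normal : ∀ i, (H i).Normal
  mono : Monotone H
  step : ∀ i, StepType p i ((H i).relIndex (H (i + 1)))

/-- `G` has a `p`-series with `k` steps of `p`-type. -/
def PSeriesLE (p k : ℕ) (G : Type*) [Group G] : Prop := ∃ H : ℕ → Subgroup G, IsPSeries p k H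

section

variable {G : Type u} [Group G] {p : ℕ}

theorem relIndex_inf_dvd {A B K : Subgroup G} [A.Normal] :
    (A ⊓ K).relIndex (B ⊓ K) ∣ A.relIndex B := by
  have h1 : (A ⊓ K).relIndex (B ⊓ K) = A.relIndex (B ⊓ K) := by
    rw [← inf_relIndex_right A (B ⊓ K), ← inf_relIndex_right (A ⊓ K) (B ⊓ K)]
    congr 1
    rw [inf_assoc, inf_eq_right.2 (inf_le_right : B ⊓ K ≤ K)]
  rw [h1, ← relIndex_subgroupOf (inf_le_left : B ⊓ K ≤ B)]
  exact relIndex_dvd_index_of_normal _ _

theorem relIndex_map_dvd {G' : Type*} [Group G'] (f : G →* G') {A B : Subgroup G} [A.Normal]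
    (hAB : A ≤ B) : (A.map f).relIndex (B.map f) ∣ A.relIndex B := by
  rw [relIndex_map_map, show B ⊔ f.ker = B ⊔ (A ⊔ f.ker) by rw [← sup_assoc, sup_eq_left.2 hAB]]
  rw [relIndex_sup_right]
  exact relIndex_dvd_of_le_left _ le_sup_left

theorem upperPSeries_succ (n : ℕ) :
    (Cfsg.upperPSeries p G (n + 1)).1 = if Even n then
      (Cfsg.pPrimeCore p (G ⧸ (Cfsg.upperPSeries p G n).1)).comap (QuotientGroup.mk' _) else
      (Cfsg.pCore p (G ⧸ (Cfsg.upperPSeries p G n).1)).comap (QuotientGroup.mk' _) := by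
  rw [Cfsg.upperPSeries]
  split_ifs <;> rfl

theorem upperPSeries_monotone : Monotone fun n => (Cfsg.upperPSeries p G n).1 := by
  refine monotone_nat_of_le_succ fun n => ?_
  rw [upperPSeries_succ]
  split_ifs <;> exact QuotientGroup.le_comap_mk' _ _

theorem relIndex_comap_mk' (N : Subgroup G) [N.Normal] (K : Subgroup (G ⧸ N)) :
    N.relIndex (K.comap (QuotientGroup.mk' N)) = Nat.card K := by
  have h := relIndex_ker (K := K.comap (QuotientGroup.mk' N)) (QuotientGroup.mk' N)
  rwa [QuotientGroup.ker_mk', map_comap_eq_self_of_surjective (QuotientGroup.mk'_surjective N)] at h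

theorem upperPSeries_step [Finite G] [hp : Fact p.Prime] (i : ℕ) :
    StepType p i ((Cfsg.upperPSeries p G i).1.relIndex (Cfsg.upperPSeries p G (i + 1)).1) := by
  rw [upperPSeries_succ]
  split_ifs with h
  · rw [relIndex_comap_mk', stepType_even_iff hp.out h]
    exact CfsgLib.Solvable.pPrimeCore_coprime p
  · rw [relIndex_comap_mk', stepType_odd_iff hp.out (Nat.not_even_iff_odd.1 h) Nat.card_pos.ne']
    exact IsPGroup.iff_card.1 (CfsgLib.Solvable.pCore_isPGroup p)

/-- Any `p`-series lies below the upper `p`-series. -/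
theorem le_upperPSeries [Finite G] [hp : Fact p.Prime] {k : ℕ} {H : ℕ → Subgroup G}
    (hH : IsPSeries p k H) : ∀ i, H i ≤ (Cfsg.upperPSeries p G i).1
  | 0 => by rw [hH.zero]; exact bot_le
  | i + 1 => by
    have ih := le_upperPSeries hH i
    have := hH.normal i
    set U := (Cfsg.upperPSeries p G i).1 with hU
    have hn := (hH.normal (i + 1)).map (QuotientGroup.mk' U) (QuotientGroup.mk'_surjective U)
    have hd : StepType p i (Nat.card ((H (i + 1)).map (QuotientGroup.mk' U))) := by
      rw [← relIndex_ker, QuotientGroup.ker_mk']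
      exact (hH.step i).of_dvd (relIndex_dvd_of_le_left _ ih)
    rw [upperPSeries_succ]
    split_ifs with h
    · exact map_le_iff_le_comap.1
        (CfsgLib.Solvable.le_pPrimeCore hn ((stepType_even_iff hp.out h).1 hd))
    · exact map_le_iff_le_comap.1 (CfsgLib.Solvable.le_pCore hn (IsPGroup.iff_card.2
        ((stepType_odd_iff hp.out (Nat.not_even_iff_odd.1 h) Nat.card_pos.ne').1 hd)))

theorem pLengthLE_iff [Finite G] [Fact p.Prime] {k : ℕ} :
    Cfsg.PLengthLE p k G ↔ PSeriesLE p k G := by
  refine ⟨fun h => ⟨fun i => (Cfsg.upperPSeries p G i).1, ?_, h, fun i => (Cfsg.upperPSeries p G i).2,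
    upperPSeries_monotone, upperPSeries_step⟩, fun ⟨H, hH⟩ => ?_⟩
  · show (Cfsg.upperPSeries p G 0).1 = ⊥
    rw [Cfsg.upperPSeries]
  · exact top_le_iff.1 (hH.last.ge.trans (le_upperPSeries hH _))

theorem PSeriesLE.mono {k k' : ℕ} (h : PSeriesLE p k G) (hk : k ≤ k') : PSeriesLE p k' G :=
  let ⟨H, hH⟩ := h
  ⟨H, hH.zero, top_le_iff.1 (hH.last.ge.trans (hH.mono (by omega))), hH.normal, hH.mono, hH.step⟩

theorem PSeriesLE.of_injective {k : ℕ} {L : Type v} [Group L] (f : L →* G)
    (hf : Function.Injective f) (h : PSeriesLE p k G) : PSeriesLE p k L := by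
  obtain ⟨H, hH⟩ := h
  refine ⟨fun i => (H i).comap f, ?_, by simp [hH.last], fun i => (hH.normal i).comap f,
    fun i j hij => comap_mono (hH.mono hij), fun i => ?_⟩
  · rw [hH.zero, MonoidHom.comap_bot, f.ker_eq_bot hf]
  · have := hH.normal i
    refine (hH.step i).of_dvd ?_
    rw [relIndex_comap, map_comap_eq, inf_comm]
    have h1 : (H i).relIndex (H (i + 1) ⊓ f.range) = (H i ⊓ f.range).relIndex (H (i + 1) ⊓ f.range) := by
      rw [← inf_relIndex_right (H i) (H (i + 1) ⊓ f.range),
        ← inf_relIndex_right (H i ⊓ f.range) (H (i + 1) ⊓ f.range)]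
      congr 1
      rw [inf_assoc, inf_eq_right.2 (inf_le_right : H (i + 1) ⊓ f.range ≤ f.range)]
    rw [h1]
    exact relIndex_inf_dvd

theorem PSeriesLE.subgroup {k : ℕ} (h : PSeriesLE p k G) (K : Subgroup G) : PSeriesLE p k K :=
  h.of_injective K.subtype K.subtype_injective

theorem PSeriesLE.of_equiv {k : ℕ} {L : Type v} [Group L] (e : G ≃* L) (h : PSeriesLE p k G) :
    PSeriesLE p k L :=
  h.of_injective e.symm.toMonoidHom e.symm.injective

theorem PSeriesLE.of_surjective {k : ℕ} {L : Type v} [Group L] (f : G →* L)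
    (hf : Function.Surjective f) (h : PSeriesLE p k G) : PSeriesLE p k L := by
  obtain ⟨H, hH⟩ := h
  refine ⟨fun i => (H i).map f, by simp [hH.zero], by simp only [hH.last, map_top_of_surjective f hf],
    fun i => (hH.normal i).map f hf, fun i j hij => map_mono (hH.mono hij), fun i => ?_⟩
  have := hH.normal i
  exact (hH.step i).of_dvd (relIndex_map_dvd f (hH.mono (Nat.le_succ i)))

theorem PSeriesLE.quotient {k : ℕ} (h : PSeriesLE p k G) (N : Subgroup G) [N.Normal] :
    PSeriesLE p k (G ⧸ N) :=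
  h.of_surjective _ (QuotientGroup.mk'_surjective N)

theorem relIndex_prod {L : Type v} [Group L] (A B : Subgroup G) (C D : Subgroup L) :
    (A.prod C).relIndex (B.prod D) = A.relIndex B * C.relIndex D := by
  rw [relIndex, relIndex, relIndex]
  have e : ((A.prod C).subgroupOf (B.prod D)) =
      ((A.subgroupOf B).prod (C.subgroupOf D)).comap (prodEquiv B D).toMonoidHom := by
    ext ⟨⟨x, y⟩, hxy⟩
    simp only [mem_comap, mem_subgroupOf, mem_prod]
    exact Iff.rfl
  rw [e, index_comap_of_surjective _ (prodEquiv B D).surjective, index_prod]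

theorem PSeriesLE.prod {k : ℕ} {L : Type v} [Group L] (h : PSeriesLE p k G)
    (h' : PSeriesLE p k L) : PSeriesLE p k (G × L) := by
  obtain ⟨H, hH⟩ := h
  obtain ⟨H', hH'⟩ := h'
  refine ⟨fun i => (H i).prod (H' i), by simp [hH.zero, hH'.zero], by simp [hH.last, hH'.last],
    fun i => ?_, fun i j hij => prod_mono (hH.mono hij) (hH'.mono hij), fun i => ?_⟩
  · have := hH.normal i
    have := hH'.normal i
    exact Subgroup.prod_normal _ _
  · rw [relIndex_prod]
    exact (hH.step i).mul (hH'.step i)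

theorem PSeriesLE.of_inf_eq_bot {k : ℕ} {N M : Subgroup G} [N.Normal] [M.Normal] (hNM : N ⊓ M = ⊥)
    (hN : PSeriesLE p k (G ⧸ N)) (hM : PSeriesLE p k (G ⧸ M)) : PSeriesLE p k G := by
  refine (hN.prod hM).of_injective ((QuotientGroup.mk' N).prod (QuotientGroup.mk' M)) ?_
  rw [← MonoidHom.ker_eq_bot_iff, MonoidHom.ker_prod, QuotientGroup.ker_mk', QuotientGroup.ker_mk',
    hNM]

theorem pSeriesLE_zero [hp : Fact p.Prime] : PSeriesLE p 0 G ↔ (Nat.card G).Coprime p := by
  refine ⟨fun ⟨H, hH⟩ => ?_, fun h => ⟨fun i => if i = 0 then ⊥ else ⊤, by simp, by simp, ?_, ?_, ?_⟩⟩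
  · have h0 := hH.step 0
    have h1 : H 1 = ⊤ := hH.last
    rw [zero_add, h1, hH.zero, relIndex_bot_left, card_top, stepType_even_iff hp.out Even.zero] at h0
    exact h0
  · intro i
    by_cases hi : i = 0 <;> simp only [hi, ↓reduceIte] <;> infer_instance
  · intro i j hij
    by_cases hi : i = 0
    · simp [hi]
    · simp [hi, show j ≠ 0 by omega]
  · intro i
    by_cases hi : i = 0
    · subst hi
      simp only [↓reduceIte, zero_add, one_ne_zero, relIndex_bot_left, card_top]
      exact (stepType_even_iff hp.out Even.zero).2 h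
    · simp only [hi, ↓reduceIte, Nat.add_eq_zero_iff, one_ne_zero, and_false, relIndex_self]
      exact stepType_one p i

theorem pSeriesLE_one_of_isPGroup [Finite G] [hp : Fact p.Prime] (h : IsPGroup p G) :
    PSeriesLE p 1 G := by
  refine ⟨fun i => if i ≤ 1 then ⊥ else ⊤, by simp, by simp, fun i => ?_, ?_, fun i => ?_⟩
  · by_cases hi : i ≤ 1 <;> simp only [hi, ↓reduceIte] <;> infer_instance
  · intro i j hij
    by_cases hj : j ≤ 1
    · simp [hj, show i ≤ 1 by omega]
    · simp [hj]
  · by_cases hi : i = 1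
    · subst hi
      rw [stepType_odd_iff hp.out odd_one]
      · simpa [relIndex_bot_left] using IsPGroup.iff_card.1 h
      · simp [relIndex_bot_left, Nat.card_pos.ne']
    · by_cases hi' : i ≤ 1
      · simp [hi', show i + 1 ≤ 1 by omega, stepType_one]
      · simp [hi', show ¬ i + 1 ≤ 1 by omega, stepType_one]

theorem map_upperPSeries_le [Finite G] [Fact p.Prime] {L : Type v} [Group L] [Finite L]
    (e : G ≃* L) (i : ℕ) :
    ((Cfsg.upperPSeries p G i).1).map e.toMonoidHom ≤ (Cfsg.upperPSeries p L i).1 := by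
  induction i with
  | zero =>
    rw [show (Cfsg.upperPSeries p G 0).1 = ⊥ by rw [Cfsg.upperPSeries], Subgroup.map_bot]
    exact bot_le
  | succ i ih =>
    have hn : ((Cfsg.upperPSeries p G (i + 1)).1.map e.toMonoidHom).Normal :=
      (Cfsg.upperPSeries p G (i + 1)).2.map _ e.surjective
    set U := (Cfsg.upperPSeries p L i).1 with hU
    have hd : StepType p i (Nat.card
        (((Cfsg.upperPSeries p G (i + 1)).1.map e.toMonoidHom).map (QuotientGroup.mk' U))) := by
      rw [← relIndex_ker, QuotientGroup.ker_mk']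
      refine ((upperPSeries_step (G := G) (p := p) i).of_dvd ?_)
      refine (relIndex_dvd_of_le_left _ ih).trans ?_
      rw [relIndex_map_map_of_injective _ _ e.injective]
    have hn' := hn.map (QuotientGroup.mk' U) (QuotientGroup.mk'_surjective U)
    rw [upperPSeries_succ (G := L)]
    split_ifs with h
    · exact map_le_iff_le_comap.1
        (CfsgLib.Solvable.le_pPrimeCore hn' ((stepType_even_iff Fact.out h).1 hd))
    · exact map_le_iff_le_comap.1 (CfsgLib.Solvable.le_pCore hn' (IsPGroup.iff_card.2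
        ((stepType_odd_iff Fact.out (Nat.not_even_iff_odd.1 h) Nat.card_pos.ne').1 hd)))

theorem upperPSeries_characteristic [Finite G] [Fact p.Prime] (i : ℕ) :
    (Cfsg.upperPSeries p G i).1.Characteristic :=
  characteristic_iff_map_le.2 fun φ => map_upperPSeries_le φ i

/-- Extensions: `p`-lengths add. -/
theorem PSeriesLE.of_normal [Finite G] [hp : Fact p.Prime] {a b : ℕ} (N : Subgroup G) [N.Normal]
    (hN : PSeriesLE p a N) (hq : PSeriesLE p b (G ⧸ N)) : PSeriesLE p (a + b) G := by
  obtain ⟨K, hK⟩ := hq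
  have hlast := pLengthLE_iff.2 hN
  set U : ℕ → Subgroup G := fun i => (Cfsg.upperPSeries p N i).1.map N.subtype with hU
  have hUn : ∀ i, (U i).Normal := fun i => by
    have := upperPSeries_characteristic (G := N) (p := p) i
    exact inferInstanceAs ((Cfsg.upperPSeries p N i).1.map N.subtype).Normal
  refine ⟨fun i => if i ≤ 2 * a then U i else (K (i - 2 * a)).comap (QuotientGroup.mk' N),
    ?_, ?_, ?_, ?_, ?_⟩
  · simp only [Nat.zero_le, ↓reduceIte, hU]
    rw [show (Cfsg.upperPSeries p N 0).1 = ⊥ by rw [Cfsg.upperPSeries], Subgroup.map_bot]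
  · simp only [show ¬ 2 * (a + b) + 1 ≤ 2 * a by omega, ↓reduceIte,
      show 2 * (a + b) + 1 - 2 * a = 2 * b + 1 by omega, hK.last, comap_top]
  · intro i
    by_cases hi : i ≤ 2 * a <;> simp only [hi, ↓reduceIte]
    · exact hUn i
    · have := hK.normal (i - 2 * a)
      infer_instance
  · refine monotone_nat_of_le_succ fun i => ?_
    rcases lt_trichotomy i (2 * a) with hi | hi | hi
    · simp only [hi.le, show i + 1 ≤ 2 * a by omega, ↓reduceIte]
      exact map_mono (upperPSeries_monotone (Nat.le_succ i))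
    · simp only [hi.le, show ¬ i + 1 ≤ 2 * a by omega, ↓reduceIte]
      exact (map_subtype_le _).trans (QuotientGroup.le_comap_mk' _ _)
    · simp only [show ¬ i ≤ 2 * a by omega, show ¬ i + 1 ≤ 2 * a by omega, ↓reduceIte]
      exact comap_mono (hK.mono (by omega))
  · intro i
    rcases lt_trichotomy i (2 * a) with hi | hi | hi
    · simp only [hi.le, show i + 1 ≤ 2 * a by omega, ↓reduceIte, hU]
      rw [relIndex_map_map_of_injective _ _ N.subtype_injective]
      exact upperPSeries_step i
    · subst hi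
      simp only [le_refl, show ¬ 2 * a + 1 ≤ 2 * a by omega, ↓reduceIte,
        show 2 * a + 1 - 2 * a = 1 by omega, hU]
      rw [← relIndex_mul_relIndex _ N _ (map_subtype_le _) (QuotientGroup.le_comap_mk' _ _),
        relIndex_comap_mk']
      refine StepType.mul ?_ ?_
      · have h1 := upperPSeries_step (G := N) (p := p) (2 * a)
        rw [show (Cfsg.upperPSeries p N (2 * a + 1)).1 = ⊤ from hlast,
          ← relIndex_map_map_of_injective _ _ N.subtype_injective, ← MonoidHom.range_eq_map,
          range_subtype] at h1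
        exact h1
      · have h2 := hK.step 0
        rw [hK.zero, relIndex_bot_left] at h2
        exact h2.congr (by simp)
    · simp only [show ¬ i ≤ 2 * a by omega, show ¬ i + 1 ≤ 2 * a by omega, ↓reduceIte]
      rw [relIndex_comap, map_comap_eq_self_of_surjective (QuotientGroup.mk'_surjective N),
        show i + 1 - 2 * a = i - 2 * a + 1 by omega]
      exact (hK.step _).congr (by simp [Nat.odd_iff]; omega)

theorem PSeriesLE.of_quotient_pPrime [Finite G] [Fact p.Prime] {k : ℕ} (N : Subgroup G) [N.Normal]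
    (hN : (Nat.card N).Coprime p) (hq : PSeriesLE p k (G ⧸ N)) : PSeriesLE p k G :=
  (zero_add k) ▸ PSeriesLE.of_normal N (pSeriesLE_zero.2 hN) hq

theorem PSeriesLE.of_quotient_pgroup [Finite G] [Fact p.Prime] {k : ℕ} (N : Subgroup G) [N.Normal]
    (hN : IsPGroup p N) (hq : PSeriesLE p k (G ⧸ N)) : PSeriesLE p (k + 1) G :=
  (add_comm 1 k) ▸ PSeriesLE.of_normal N (pSeriesLE_one_of_isPGroup hN) hq

/-- With `O_{p'}(G) = 1`, dividing by `O_p(G)` lowers the `p`-length. -/
theorem PSeriesLE.quotient_pCore [Finite G] [hp : Fact p.Prime] {k : ℕ} (h : PSeriesLE p (k + 1) G)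
    (hO : Cfsg.pPrimeCore p G = ⊥) [(Cfsg.pCore p G).Normal] :
    PSeriesLE p k (G ⧸ Cfsg.pCore p G) := by
  obtain ⟨H, hH⟩ := h
  set π := QuotientGroup.mk' (Cfsg.pCore p G)
  have hπ := QuotientGroup.mk'_surjective (Cfsg.pCore p G)
  have hH1 : H 1 = ⊥ := le_bot_iff.1 (hO ▸ CfsgLib.Solvable.le_pPrimeCore (hH.normal 1) (by
    have h0 := hH.step 0
    rwa [zero_add, hH.zero, relIndex_bot_left, stepType_even_iff hp.out Even.zero] at h0))
  have hH2 : H 2 ≤ Cfsg.pCore p G := CfsgLib.Solvable.le_pCore (hH.normal 2) (IsPGroup.iff_card.2 (by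
    have h0 := hH.step 1
    rwa [hH1, relIndex_bot_left, stepType_odd_iff hp.out odd_one Nat.card_pos.ne'] at h0))
  have hker : (H 2).map π = ⊥ :=
    (Subgroup.map_eq_bot_iff _).2 (hH2.trans (QuotientGroup.ker_mk' _).ge)
  refine ⟨fun i => (H (i + 2)).map π, hker, ?_, fun i => (hH.normal _).map _ hπ,
    fun i j hij => map_mono (hH.mono (by omega)), fun i => ?_⟩
  · simp only [show 2 * k + 1 + 2 = 2 * (k + 1) + 1 by ring, hH.last, map_top_of_surjective π hπ]
  · have := hH.normal (i + 2)
    exact ((hH.step (i + 2)).congr (by simp [Nat.odd_iff])).of_dvd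
      (relIndex_map_dvd π (hH.mono (Nat.le_succ _)))

theorem exists_pSeriesLE_of_isPSolvable [hp : Fact p.Prime] (h : Cfsg.IsPSolvable p G) :
    ∃ k, PSeriesLE p k G := by
  obtain ⟨n, N, h0, h1, hmono, hn, hfac⟩ := h
  classical
  set N' : ℕ → Subgroup G := fun j => N ⟨min j n, by omega⟩ with hN'
  have hN'm : Monotone N' := fun i j hij => hmono (Fin.mk_le_mk.2 (by omega))
  -- the `p`-steps sit at odd positions
  refine ⟨n, fun i => if Even i then N' (i / 2) else
    if ((N' (i / 2)).relIndex (N' (i / 2 + 1))).Coprime p then N' (i / 2 + 1) else N' (i / 2), ?_, ?_, ?_, ?_, ?_⟩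
  · simpa [hN'] using h0
  · have e : N' n = ⊤ := by
      simp only [hN', min_self]; exact h1
    have e2 : (2 * n + 1) / 2 = n := by omega
    simp only [show ¬ Even (2 * n + 1) by simp, ↓reduceIte]
    rw [e2]
    split_ifs
    · exact top_le_iff.1 (e.ge.trans (hN'm (Nat.le_succ n)))
    · exact e
  · intro i; split_ifs <;> exact hn _
  · refine monotone_nat_of_le_succ fun i => ?_
    rcases Nat.even_or_odd i with hi | hi
    · simp only [hi, ↓reduceIte, show ¬ Even (i + 1) by simp [Nat.even_add_one, hi],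
        show (i + 1) / 2 = i / 2 by obtain ⟨j, rfl⟩ := hi; omega]
      split_ifs
      · exact hN'm (Nat.le_succ _)
      · exact le_rfl
    · simp only [Nat.not_even_iff_odd.2 hi, ↓reduceIte, show Even (i + 1) by simp [Nat.even_add_one, hi],
        show (i + 1) / 2 = i / 2 + 1 by obtain ⟨j, rfl⟩ := hi; omega]
      split_ifs
      · exact le_rfl
      · exact hN'm (Nat.le_succ _)
  · intro i
    rcases Nat.even_or_odd i with hi | hi
    · simp only [hi, ↓reduceIte, show ¬ Even (i + 1) by simp [Nat.even_add_one, hi],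
        show (i + 1) / 2 = i / 2 by obtain ⟨j, rfl⟩ := hi; omega]
      split_ifs with hc
      · exact (stepType_even_iff hp.out hi).2 hc
      · rw [relIndex_self]; exact stepType_one p i
    · simp only [Nat.not_even_iff_odd.2 hi, ↓reduceIte, show Even (i + 1) by simp [Nat.even_add_one, hi],
        show (i + 1) / 2 = i / 2 + 1 by obtain ⟨j, rfl⟩ := hi; omega]
      split_ifs with hc
      · rw [relIndex_self]; exact stepType_one p i
      · have hlt : i / 2 < n := by
          by_contra hge
          exact hc (by simp [hN', show min (i / 2) n = n by omega, show min (i / 2 + 1) n = n by omega])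
        have hfe : (∃ m, (N' (i / 2)).relIndex (N' (i / 2 + 1)) = p ^ m) ∨
            ((N' (i / 2)).relIndex (N' (i / 2 + 1))).Coprime p := by
          have := hfac ⟨i / 2, hlt⟩
          simpa [hN', Fin.succ, Fin.castSucc, Fin.castAdd, Fin.castLE,
            show min (i / 2) n = i / 2 by omega, show min (i / 2 + 1) n = i / 2 + 1 by omega] using this
        obtain ⟨m, hm⟩ := hfe.resolve_right hc
        rw [hm, stepType_odd_iff hp.out hi (pow_ne_zero _ hp.out.ne_zero)]
        exact ⟨m, rfl⟩

theorem PSeriesLE.isPSolvable [Finite G] [hp : Fact p.Prime] {k : ℕ} (h : PSeriesLE p k G) :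
    Cfsg.IsPSolvable p G := by
  obtain ⟨H, hH⟩ := h
  refine ⟨2 * k + 1, fun i => H i, hH.zero, by simpa using hH.last, fun i j hij => hH.mono hij,
    fun i => hH.normal i, fun i => ?_⟩
  rcases Nat.even_or_odd (i : ℕ) with hi | hi
  · exact Or.inr (by simpa using (stepType_even_iff hp.out hi).1 (hH.step i))
  · refine Or.inl ?_
    exact (stepType_odd_iff hp.out hi index_ne_zero_of_finite).1 (hH.step i)

theorem isPSolvable_subgroup [Finite G] [Fact p.Prime] (h : Cfsg.IsPSolvable p G) (K : Subgroup G) :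
    Cfsg.IsPSolvable p K :=
  let ⟨_, hk⟩ := exists_pSeriesLE_of_isPSolvable h
  (hk.subgroup K).isPSolvable

end

end CfsgLib.PLength
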