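import Cfsg.Agent.Lib.PLength.Series
import Cfsg.Agent.Lib.Solvable.MinNormal
import Cfsg.Agent.Lib.Solvable.Frattini
import Cfsg.Agent.Lib.Solvable.SchurZassenhaus
import Cfsg.Agent.Lib.Solvable.Nilpotent

/-!
# Minimal counterexamples to bounds on the `p`-length are primitive
-/

set_option autoImplicit false

namespace CfsgLib.PLength

open Subgroup
open scoped Pointwise

universe u

variable {G : Type u} [Group G] [Finite G] {p : ℕ} [hp : Fact p.Prime]

/-- A nontrivial `p`-solvable group has a nontrivial `p`-core or a nontrivial `p'`-core. -/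
theorem pCore_ne_bot_of_isPSolvable [Nontrivial G] (hs : Cfsg.IsPSolvable p G)
    (hO : Cfsg.pPrimeCore p G = ⊥) : Cfsg.pCore p G ≠ ⊥ := by
  intro hP
  obtain ⟨k, H, hH⟩ := exists_pSeriesLE_of_isPSolvable hs
  have key : ∀ i, H i = ⊥ := by
    intro i
    induction i with
    | zero => exact hH.zero
    | succ i ih =>
      have h0 := hH.step i
      rw [ih, relIndex_bot_left] at h0
      rcases Nat.even_or_odd i with hi | hi
      · exact le_bot_iff.1 (hO ▸ CfsgLib.Solvable.le_pPrimeCore (hH.normal _)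
          ((stepType_even_iff hp.out hi).1 h0))
      · exact le_bot_iff.1 (hP ▸ CfsgLib.Solvable.le_pCore (hH.normal _)
          (IsPGroup.iff_card.2 ((stepType_odd_iff hp.out hi Nat.card_pos.ne').1 h0)))
  exact top_ne_bot (α := Subgroup G) (hH.last.symm.trans (key _))

/-- A normal `p`-subgroup inside the Frattini subgroup does not affect the `p`-length. -/
theorem pSeriesLE_of_quotient_frattini {k : ℕ} (V : Subgroup G) [V.Normal] (hV : IsPGroup p V)
    (hVf : V ≤ frattini G) (hO : Cfsg.pPrimeCore p G = ⊥)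
    (h : PSeriesLE p (k + 1) (G ⧸ V)) : PSeriesLE p (k + 1) G := by
  obtain ⟨H, hH⟩ := h
  set π := QuotientGroup.mk' V with hπ
  set W := (H 1).comap π with hW
  have hVW : V ≤ W := QuotientGroup.le_comap_mk' _ _
  have := hH.normal 1
  have hWn : W.Normal := inferInstance
  -- the first term of the series is trivial
  have hidx : (V.relIndex W).Coprime p := by
    rw [hW, hπ, relIndex_comap_mk']
    have h0 := hH.step 0
    rwa [zero_add, hH.zero, relIndex_bot_left, stepType_even_iff hp.out Even.zero] at h0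
  have hW1 : W = V := by
    obtain ⟨n, hn⟩ := IsPGroup.iff_card.1 hV
    have hcop : (Nat.card (V.subgroupOf W)).Coprime (V.subgroupOf W).index := by
      rw [Nat.card_congr (subgroupOfEquivOfLe hVW).toEquiv, hn]
      exact (Nat.Coprime.pow_left n hidx.symm)
    obtain ⟨K, hK⟩ := exists_right_complement'_of_coprime hcop
    have hsol : Group.IsSolvable (V.subgroupOf W) := by
      have := (hV.of_equiv (subgroupOfEquivOfLe hVW).symm).isNilpotent
      infer_instance
    have hfr : normalizer ((K.map W.subtype : Subgroup G) : Set G) ⊔ V = ⊤ := by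
      rw [eq_top_iff]
      intro g _
      -- the conjugate of `K` is another complement
      let φ : W ≃* W := MulAut.conjNormal g
      have hcardK : Nat.card (K.map φ.toMonoidHom) = Nat.card K := card_map_of_injective φ.injective
      have hK' : IsComplement' (V.subgroupOf W) (K.map φ.toMonoidHom) := by
        refine isComplement'_of_coprime ?_ ?_
        · rw [hcardK]
          exact hK.card_mul_card
        · rw [hcardK, ← hK.symm.index_eq_card]
          exact hcop
      obtain ⟨w, hwV, hw⟩ :=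
        CfsgLib.Solvable.exists_mem_conj_eq_of_isComplement' _ hcop (Or.inl hsol) hK hK'
      have hmem : (w : G)⁻¹ * g ∈ normalizer ((K.map W.subtype : Subgroup G) : Set G) := by
        refine mem_normalizer_iff_map_conj_eq.2 (eq_of_le_of_card_ge ?_
          (card_map_of_injective (MulAut.conj ((w : G)⁻¹ * g)).injective).ge)
        rintro _ ⟨_, ⟨x, hx, rfl⟩, rfl⟩
        have h1 : φ x ∈ MulAut.conj w • K := by rw [hw]; exact ⟨x, hx, rfl⟩
        obtain ⟨y, hy, he⟩ := (Subgroup.mem_smul_pointwise_iff_exists _ _ _).1 h1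
        refine ⟨y, hy, ?_⟩
        have he' : (w : G) * y * (w : G)⁻¹ = g * x * g⁻¹ := congrArg Subtype.val he
        simp only [Subgroup.coe_subtype, MonoidHom.coe_coe, MulAut.conj_apply]
        calc (y : G) = (w : G)⁻¹ * ((w : G) * y * (w : G)⁻¹) * w := by group
          _ = (w : G)⁻¹ * g * x * ((w : G)⁻¹ * g)⁻¹ := by rw [he']; group
      have : g = (w : G) * ((w : G)⁻¹ * g) := by group
      rw [this]
      exact mul_mem (mem_sup_right hwV) (mem_sup_left hmem)
    have htop := CfsgLib.Solvable.eq_top_of_sup_eq_top_of_le_frattini hVf hfr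
    have hKn : (K.map W.subtype).Normal := normalizer_eq_top_iff.1 htop
    have hKb : K.map W.subtype = ⊥ := le_bot_iff.1 (hO ▸ CfsgLib.Solvable.le_pPrimeCore hKn (by
      rw [card_map_of_injective W.subtype_injective, ← hK.symm.index_eq_card]
      exact hidx))
    rw [map_eq_bot_iff_of_injective _ W.subtype_injective] at hKb
    refine le_antisymm ?_ hVW
    rw [← relIndex_eq_one, relIndex, hK.symm.index_eq_card, hKb, card_bot]
  have hH1 : H 1 = ⊥ := by
    rw [← map_comap_eq_self_of_surjective (QuotientGroup.mk'_surjective V) (H 1)]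
    change W.map π = ⊥
    rw [hW1, QuotientGroup.map_mk'_self]
  refine ⟨fun i => if i ≤ 1 then ⊥ else (H i).comap π, by simp,
    by simp [show ¬ 2 * (k + 1) + 1 ≤ 1 by omega, hH.last], fun i => ?_, ?_, fun i => ?_⟩
  · have := hH.normal i
    by_cases hi : i ≤ 1 <;> simp only [hi, ↓reduceIte] <;> infer_instance
  · intro i j hij
    by_cases hi : i ≤ 1
    · simp [hi]
    · simp only [hi, show ¬ j ≤ 1 by omega, ↓reduceIte]
      exact comap_mono (hH.mono hij)
  · rcases lt_trichotomy i 1 with hi | hi | hi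
    · simp [show i ≤ 1 by omega, show i + 1 ≤ 1 by omega, stepType_one]
    · subst hi
      simp only [le_refl, show ¬ (1 + 1 ≤ 1) by omega, ↓reduceIte]
      rw [← relIndex_mul_relIndex ⊥ V _ bot_le (QuotientGroup.le_comap_mk' _ _), relIndex_bot_left,
        relIndex_comap_mk']
      refine StepType.mul ((stepType_odd_iff hp.out odd_one Nat.card_pos.ne').2
        (IsPGroup.iff_card.1 hV)) ?_
      have h1 := hH.step 1
      rwa [hH1, relIndex_bot_left] at h1
    · simp only [show ¬ i ≤ 1 by omega, show ¬ i + 1 ≤ 1 by omega, ↓reduceIte]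
      rw [relIndex_comap, map_comap_eq_self_of_surjective (QuotientGroup.mk'_surjective V)]
      exact hH.step i

/-- A primitive `p`-solvable configuration: `G = V ⋊ M`. -/
structure IsPrimitiveConfig (p : ℕ) (V M : Subgroup G) : Prop where
  normal : V.Normal
  ne_bot : V ≠ ⊥
  comm : ∀ a ∈ V, ∀ b ∈ V, a * b = b * a
  exponent : ∀ a ∈ V, a ^ p = 1
  inf_eq : V ⊓ M = ⊥
  sup_eq : V ⊔ M = ⊤
  centralizer_le : centralizer (V : Set G) ≤ V
  pCore_complement : Cfsg.pCore p M = ⊥
  pCore_eq : Cfsg.pCore p G = V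
  pPrimeCore_eq : Cfsg.pPrimeCore p G = ⊥
  le_of_normal : ∀ N : Subgroup G, N.Normal → N ≠ ⊥ → V ≤ N

omit [Finite G] hp in
theorem IsPrimitiveConfig.isPGroup {V M : Subgroup G} (h : IsPrimitiveConfig p V M) : IsPGroup p V :=
  fun a => ⟨1, by rw [pow_one]; exact Subtype.ext (h.exponent a a.2)⟩

/-- A minimal counterexample to `l_p ≤ k + 1` is primitive, and its top part has `p`-length
greater than `k`. -/
theorem exists_primitiveConfig (hs : Cfsg.IsPSolvable p G) {k : ℕ} (hG : ¬ PSeriesLE p (k + 1) G)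
    (hq : ∀ N : Subgroup G, ∀ _ : N.Normal, N ≠ ⊥ → PSeriesLE p (k + 1) (G ⧸ N)) :
    ∃ V M : Subgroup G, IsPrimitiveConfig p V M ∧ ¬ PSeriesLE p k M := by
  have hO : Cfsg.pPrimeCore p G = ⊥ := by
    by_contra hne
    have hn := CfsgLib.Solvable.pPrimeCore_normal p G
    exact hG ((hq _ hn hne).of_quotient_pPrime _ (CfsgLib.Solvable.pPrimeCore_coprime p))
  have : Nontrivial G := by
    by_contra hT
    rw [not_nontrivial_iff_subsingleton] at hT
    exact hG ((pSeriesLE_zero.2 (by simp)).mono (Nat.zero_le _))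
  have hcore := pCore_ne_bot_of_isPSolvable hs hO
  have hcn := CfsgLib.Solvable.pCore_normal p G
  obtain ⟨V, hVn, hVb, hVle, hVmin⟩ := CfsgLib.Solvable.exists_minimal_normal_le hcn hcore
  have hVp : IsPGroup p V := (CfsgLib.Solvable.pCore_isPGroup p).to_le hVle
  have hVsol : Group.IsSolvable V := by
    have := hVp.isNilpotent
    infer_instance
  obtain ⟨hVc, hVe⟩ : IsMulCommutative V ∧ ∀ a ∈ V, a ^ p = 1 := by
    have hab := CfsgLib.Solvable.isMulCommutative_of_minimal_normal hVb hVmin
    refine ⟨hab, ?_⟩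
    obtain ⟨q, hq', hqe⟩ := CfsgLib.Solvable.exists_prime_pow_eq_one_of_minimal_normal hVb hVmin
    obtain ⟨a, ha, ha1⟩ := V.bot_or_exists_ne_one.resolve_left hVb
    have := Fact.mk hq'
    have h1 : orderOf a = q := orderOf_eq_prime (hqe a ha) ha1
    have h2 : p ∣ orderOf a := by
      obtain ⟨j, hj⟩ := IsPGroup.iff_orderOf.1 hVp ⟨a, ha⟩
      rw [orderOf_mk] at hj
      rcases j with - | j
      · rw [pow_zero, h1] at hj; exact absurd hj hq'.ne_one
      · rw [hj]; exact dvd_pow_self p (by omega)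
    rw [h1, Nat.prime_dvd_prime_iff_eq hp.out hq'] at h2
    exact h2 ▸ hqe
  have hcomm : ∀ a ∈ V, ∀ b ∈ V, a * b = b * a := fun a ha b hb =>
    congrArg Subtype.val (hVc.is_comm.comm (⟨a, ha⟩ : V) ⟨b, hb⟩)
  -- the unique minimal normal subgroup
  have huniq : ∀ N : Subgroup G, N.Normal → N ≠ ⊥ → V ≤ N := by
    intro N hN hNb
    rcases hVmin (V ⊓ N) inferInstance inf_le_left with h | h
    · exact absurd (PSeriesLE.of_inf_eq_bot h (hq V hVn hVb) (hq N hN hNb)) hG
    · exact h.ge.trans inf_le_right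
  have hnf : ¬ V ≤ frattini G := fun hf =>
    hG (pSeriesLE_of_quotient_frattini V hVp hf hO (hq V hVn hVb))
  obtain ⟨M, hM, hsup, hVM⟩ := CfsgLib.Solvable.exists_coatom_sup_eq_top hnf
  have hdis : V ⊓ M = ⊥ :=
    (hVmin _ (CfsgLib.Solvable.inf_normal_of_sup_eq_top hsup) inf_le_left).resolve_right fun h =>
      hVM (h.ge.trans inf_le_right)
  have hmem : ∀ g : G, ∃ v ∈ V, ∃ m ∈ M, v * m = g := fun g => by
    have hg : g ∈ ((V ⊔ M : Subgroup G) : Set G) := by rw [hsup]; trivial
    rw [normal_mul] at hg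
    obtain ⟨v, hv, m, hm, e⟩ := hg
    exact ⟨v, hv, m, hm, e⟩
  have hnorm : ∀ N : Subgroup G, N ≤ M → (∀ m ∈ M, ∀ x ∈ N, m * x * m⁻¹ ∈ N) →
      (∀ v ∈ V, ∀ x ∈ N, v * x = x * v) → N.Normal := by
    intro N _ hMN hVN
    refine ⟨fun x hx g => ?_⟩
    obtain ⟨v, hv, m, hm, rfl⟩ := hmem g
    have h1 := hMN m hm x hx
    rw [show v * m * x * (v * m)⁻¹ = v * (m * x * m⁻¹) * v⁻¹ by group, hVN v hv _ h1,
      mul_inv_cancel_right]
    exact h1
  have hcent : centralizer (V : Set G) ≤ V := by
    intro c hc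
    obtain ⟨v, hv, m, hm, rfl⟩ := hmem c
    have hN : (M ⊓ centralizer (V : Set G)) = ⊥ := by
      by_contra hne
      refine hVM ((huniq _ (hnorm _ inf_le_left (fun a ha x hx => mem_inf.2 ⟨M.mul_mem (M.mul_mem ha hx.1) (M.inv_mem ha),
        ?_⟩) fun a ha x hx => mem_centralizer_iff.1 hx.2 a ha) hne).trans inf_le_left)
      exact (inferInstance : (centralizer (V : Set G)).Normal).conj_mem x hx.2 a
    have hvC : v ∈ centralizer (V : Set G) := mem_centralizer_iff.2 fun b hb => hcomm b hb v hv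
    have : m ∈ M ⊓ centralizer (V : Set G) := ⟨hm, (mul_mem_cancel_left hvC).1 hc⟩
    rw [hN, mem_bot] at this
    rw [this, mul_one]; exact hv
  have hcoreV : Cfsg.pCore p G = V := by
    refine le_antisymm ?_ hVle
    set R := Cfsg.pCore p G
    have hnil : Group.IsNilpotent R := (CfsgLib.Solvable.pCore_isPGroup p).isNilpotent
    have hne : V.subgroupOf R ≠ ⊥ := fun e => hVb (by
      rw [← map_subgroupOf_eq_of_le hVle, e, Subgroup.map_bot])
    have hz := CfsgLib.Solvable.normal_inf_center_ne_bot (V.subgroupOf R) hne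
    set Z := (V.subgroupOf R ⊓ center R).map R.subtype with hZ
    have hZle : Z ≤ V := (map_mono inf_le_left).trans (map_subgroupOf_eq_of_le hVle).le
    have hZn : Z.Normal := by
      have e : Z = V ⊓ (center R).map R.subtype := by
        ext x
        simp only [hZ, mem_map, mem_inf, mem_subgroupOf]
        constructor
        · rintro ⟨y, ⟨h1, h2⟩, rfl⟩; exact ⟨h1, y, h2, rfl⟩
        · rintro ⟨h1, y, h2, rfl⟩; exact ⟨y, ⟨h1, h2⟩, rfl⟩
      rw [e]
      infer_instance
    have hZV : Z = V := (hVmin Z hZn hZle).resolve_left fun e =>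
      hz ((map_eq_bot_iff_of_injective _ R.subtype_injective).1 e)
    refine fun r hr => hcent (mem_centralizer_iff.2 fun v hv => ?_)
    rw [← hZV] at hv
    obtain ⟨z, ⟨-, hz2⟩, rfl⟩ := hv
    exact (congrArg Subtype.val (mem_center_iff.1 hz2 ⟨r, hr⟩)).symm
  refine ⟨V, M, ⟨hVn, hVb, hcomm, hVe, hdis, hsup, hcent, ?_, hcoreV, hO, huniq⟩, fun hM' => hG ?_⟩
  · -- `V` times the `p`-core of `M` is a normal `p`-subgroup
    set R := (Cfsg.pCore p M).map M.subtype with hR
    have hRM : R ≤ M := map_subtype_le _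
    have hRn : (V ⊔ R).Normal := by
      refine normalizer_eq_top_iff.1 (top_le_iff.1 (hsup ▸ sup_le (le_sup_left.trans le_normalizer) ?_))
      intro m hm
      refine mem_normalizer_iff_map_conj_eq.2 (eq_of_le_of_card_ge ?_
        (card_map_of_injective (MulAut.conj m).injective).ge)
      rw [Subgroup.map_sup]
      refine sup_le_sup ?_ ?_
      · rintro _ ⟨v, hv, rfl⟩; exact hVn.conj_mem v hv m
      · rintro _ ⟨_, ⟨r, hr, rfl⟩, rfl⟩
        exact ⟨⟨m, hm⟩ * r * ⟨m, hm⟩⁻¹, (CfsgLib.Solvable.pCore_normal p M).conj_mem r hr _, rfl⟩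
    have hle : V ⊔ R ≤ V := (CfsgLib.Solvable.le_pCore hRn
      (IsPGroup.to_sup_of_normal_left hVp ((CfsgLib.Solvable.pCore_isPGroup p).map _))).trans hcoreV.le
    have : R = ⊥ := le_bot_iff.1 (hdis ▸ le_inf (le_sup_right.trans hle) hRM)
    exact (map_eq_bot_iff_of_injective _ M.subtype_injective).1 this
  · refine PSeriesLE.of_quotient_pgroup V hVp (hM'.of_surjective ((QuotientGroup.mk' V).comp M.subtype) ?_)
    intro g
    obtain ⟨g, rfl⟩ := QuotientGroup.mk'_surjective V g
    obtain ⟨v, hv, m, hm, rfl⟩ := hmem g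
    refine ⟨⟨m, hm⟩, ?_⟩
    simp [(QuotientGroup.eq_one_iff v).2 hv]

end CfsgLib.PLength
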