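import Cfsg.Agent.Lib.PLength.Descent
import Cfsg.Agent.Lib.Solvable.AbelianByClassTwo

/-!
# Elementary relations between the `p`-lengths and the derived length of a solvable group
-/

set_option autoImplicit false

namespace CfsgLib.PLength

open Subgroup

universe u

theorem isPSolvable_of_isSolvable {p : ℕ} [hp : Fact p.Prime] :
    ∀ (n : ℕ) (G : Type u) [Group G] [Finite G], Nat.card G ≤ n → Group.IsSolvable G →
      ∃ k, PSeriesLE p k G := by
  intro n
  induction n with
  | zero => intro G _ _ h; exact absurd h (Nat.card_pos (α := G)).not_ge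
  | succ n ih =>
    intro G _ _ hn hs
    rcases subsingleton_or_nontrivial G with hT | hT
    · exact ⟨0, pSeriesLE_zero.2 (by simp)⟩
    obtain ⟨N, hN, hNb, hmin⟩ := CfsgLib.Solvable.exists_minimal_normal (G := G)
    obtain ⟨q, hq, hqN, -, -⟩ := CfsgLib.Solvable.exists_isPGroup_of_minimal_normal hNb hmin
    obtain ⟨k, hk⟩ := ih (G ⧸ N) (by
      have := CfsgLib.Solvable.card_quotient_lt (N := N) hNb; omega) inferInstance
    by_cases hqp : q = p
    · subst hqp
      exact ⟨k + 1, hk.of_quotient_pgroup N hqN⟩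
    · have := Fact.mk hq
      obtain ⟨m, hm⟩ := IsPGroup.iff_card.1 hqN
      exact ⟨k, hk.of_quotient_pPrime N (hm ▸ ((Nat.coprime_primes hq hp.out).2 hqp).pow_left m)⟩

/-- `l_p ≤ ∏ (1 + l_q)`, the product over the other primes dividing the order. -/
theorem pSeriesLE_prod {p : ℕ} [hp : Fact p.Prime] : ∀ (r : ℕ) (G : Type u) [Group G] [Finite G],
    Group.IsSolvable G → ∀ q : Fin r → ℕ, (∀ i, (q i).Prime ∧ q i ≠ p) →
      (∀ s : ℕ, s.Prime → s ∣ Nat.card G → s ≠ p → ∃ i, q i = s) → ∀ l : Fin r → ℕ,
        (∀ i, PSeriesLE (q i) (l i) G) → PSeriesLE p (∏ i, (1 + l i)) G := by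
  intro r
  induction r with
  | zero =>
    intro G _ _ _ q _ hcov l _
    have hG : IsPGroup p G := IsPGroup.iff_card.2 ⟨(Nat.card G).factorization p,
      (Nat.eq_pow_of_factorization_eq_single Nat.card_pos.ne' (Finsupp.ext fun s => by
        rcases eq_or_ne s p with rfl | hs
        · simp
        · rw [Finsupp.single_eq_of_ne hs, Nat.factorization_eq_zero_iff]
          by_contra hh
          push Not at hh
          obtain ⟨i, -⟩ := hcov s hh.1 hh.2.1 hs
          exact i.elim0))⟩
    simpa using pSeriesLE_one_of_isPGroup hG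
  | succ r ih =>
    intro G _ _ hs q hq hcov l hl
    rw [Fin.prod_univ_castSucc]
    have hlast := hl (Fin.last r)
    have hl' : ∀ i : Fin r, PSeriesLE (q i.castSucc) (l i.castSucc) G := fun i => hl _
    have := Fact.mk (hq (Fin.last r)).1
    set M := ∏ i : Fin r, (1 + l i.castSucc) with hM
    have hfac : ∀ i, Fact (q i).Prime := fun i => ⟨(hq i).1⟩
    generalize l (Fin.last r) = L at hlast ⊢
    -- induction on the bound for the last prime
    suffices key : ∀ (L : ℕ) (G : Type u) [Group G] [Finite G], Group.IsSolvable G →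
        (∀ s : ℕ, s.Prime → s ∣ Nat.card G → s ≠ p → ∃ i, q i = s) →
        PSeriesLE (q (Fin.last r)) L G → (∀ i : Fin r, PSeriesLE (q i.castSucc) (l i.castSucc) G) →
        PSeriesLE p (M * (1 + L)) G from key L G hs hcov hlast hl'
    have base : ∀ (G : Type u) [Group G] [Finite G], Group.IsSolvable G →
        (∀ s : ℕ, s.Prime → s ∣ Nat.card G → s ≠ p → ∃ i, q i = s) →
        (Nat.card G).Coprime (q (Fin.last r)) →
        (∀ i : Fin r, PSeriesLE (q i.castSucc) (l i.castSucc) G) → PSeriesLE p M G := by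
      intro G _ _ hs hcov hcop hl'
      refine ih G hs (fun i => q i.castSucc) (fun i => hq _) (fun s hs1 hs2 hs3 => ?_) _ hl'
      obtain ⟨i, rfl⟩ := hcov s hs1 hs2 hs3
      induction i using Fin.lastCases with
      | last => exact absurd hs2 (hs1.coprime_iff_not_dvd.1 hcop.symm)
      | cast j => exact ⟨j, rfl⟩
    intro L
    induction L with
    | zero =>
      intro G _ _ hs hcov hlast hl'
      rw [add_zero, mul_one]
      exact base G hs hcov (pSeriesLE_zero.1 hlast) hl'
    | succ L ihL =>
      intro G _ _ hs hcov hlast hl'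
      have hN := CfsgLib.Solvable.pPrimeCore_normal (q (Fin.last r)) G
      set N := Cfsg.pPrimeCore (q (Fin.last r)) G with hNdef
      have h1 : PSeriesLE p M N := base N inferInstance
        (fun s hs1 hs2 hs3 => hcov s hs1 (hs2.trans (card_subgroup_dvd_card N)) hs3)
        (CfsgLib.Solvable.pPrimeCore_coprime _) fun i => (hl' i).subgroup N
      have hO := CfsgLib.Solvable.pPrimeCore_quotient_eq_bot (G := G) (q (Fin.last r))
      have hR := CfsgLib.Solvable.pCore_normal (q (Fin.last r)) (G ⧸ N)
      set R := Cfsg.pCore (q (Fin.last r)) (G ⧸ N) with hRdef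
      have h2 := (hlast.quotient N).quotient_pCore hO
      have h3 : PSeriesLE p (M * (1 + L)) ((G ⧸ N) ⧸ R) := by
        refine ihL _ inferInstance (fun s hs1 hs2 hs3 => hcov s hs1 (hs2.trans ?_) hs3) h2
          fun i => ((hl' i).quotient N).quotient R
        exact (R.card_quotient_dvd_card).trans N.card_quotient_dvd_card
      have h4 : (Nat.card R).Coprime p := by
        obtain ⟨m, hm⟩ := IsPGroup.iff_card.1 (CfsgLib.Solvable.pCore_isPGroup (G := G ⧸ N) (q (Fin.last r)))
        rw [hRdef, hm]
        exact ((Nat.coprime_primes (hq _).1 hp.out).2 (hq _).2).pow_left m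
      have h5 := PSeriesLE.of_normal N h1 (h3.of_quotient_pPrime R h4)
      exact h5.mono (by ring_nf; omega)

/-- The derived length is at most `∑ d_p l_p`. -/
theorem derivedSeries_sum_eq_bot {r : ℕ} (q : Fin r → ℕ) (hq : ∀ i, (q i).Prime) (d : Fin r → ℕ) :
    ∀ (n : ℕ) (G : Type u) [Group G] [Finite G], Nat.card G ≤ n → Group.IsSolvable G →
      (∀ s : ℕ, s.Prime → s ∣ Nat.card G → ∃ i, q i = s) →
      (∀ i, ∀ S : Sylow (q i) G, derivedSeries (S : Subgroup G) (d i) = ⊥) →
      ∀ l : Fin r → ℕ, (∀ i, PSeriesLE (q i) (l i) G) → derivedSeries G (∑ i, d i * l i) = ⊥ := by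
  intro n
  induction n with
  | zero => intro G _ _ h; exact absurd h (Nat.card_pos (α := G)).not_ge
  | succ n ih =>
    intro G _ _ hn hs hcov hd l hl
    rcases subsingleton_or_nontrivial G with hT | hT
    · exact Subsingleton.elim _ _
    obtain ⟨N, hN, hNb, hmin⟩ := CfsgLib.Solvable.exists_minimal_normal (G := G)
    have hquot : ∀ N : Subgroup G, ∀ _ : N.Normal, N ≠ ⊥ → ∀ l' : Fin r → ℕ,
        (∀ i, PSeriesLE (q i) (l' i) (G ⧸ N)) → derivedSeries G (∑ i, d i * l' i) ≤ N := by
      intro N _ hNb l' hl'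
      have h := ih (G ⧸ N) (by have := CfsgLib.Solvable.card_quotient_lt (N := N) hNb; omega) inferInstance
        (fun s hs1 hs2 => hcov s hs1 (hs2.trans N.card_quotient_dvd_card)) (fun i S => by
          have := Fact.mk (hq i)
          obtain ⟨P, φ, hφ⟩ := exists_sylow_surjective (QuotientGroup.mk'_surjective N) S
          exact le_bot_iff.1 ((map_derivedSeries_eq hφ (d i)).ge.trans (by rw [hd i P, Subgroup.map_bot])))
        l' hl'
      have h1 := map_derivedSeries_le_derivedSeries (QuotientGroup.mk' N) (∑ i, d i * l' i)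
      rwa [h, le_bot_iff, Subgroup.map_eq_bot_iff, QuotientGroup.ker_mk'] at h1
    by_cases hu : ∃ M : Subgroup G, M.Normal ∧ M ≠ ⊥ ∧ N ⊓ M = ⊥
    · obtain ⟨M, hM, hMb, hNM⟩ := hu
      exact le_bot_iff.1 (hNM ▸ le_inf (hquot N hN hNb l fun i => (hl i).quotient N)
        (hquot M hM hMb l fun i => (hl i).quotient M))
    push Not at hu
    obtain ⟨p, hp, hpN, -, -⟩ := CfsgLib.Solvable.exists_isPGroup_of_minimal_normal hNb hmin
    have := Fact.mk hp
    have hpd : p ∣ Nat.card N := by
      obtain ⟨m, hm⟩ := IsPGroup.iff_card.1 hpN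
      rcases m with - | m
      · exact absurd (N.eq_bot_of_card_eq (by simpa using hm)) hNb
      · exact hm ▸ dvd_pow_self p (by omega)
    obtain ⟨i₀, hi₀⟩ := hcov p hp (hpd.trans (card_subgroup_dvd_card N))
    subst hi₀
    have hO : Cfsg.pPrimeCore (q i₀) G = ⊥ := by
      by_contra hne
      have hn' := CfsgLib.Solvable.pPrimeCore_normal (q i₀) G
      have hle : N ≤ Cfsg.pPrimeCore (q i₀) G :=
        ((hmin _ inferInstance inf_le_left).resolve_left (hu _ hn' hne)).ge.trans inf_le_right
      exact (hp.coprime_iff_not_dvd.1 (CfsgLib.Solvable.pPrimeCore_coprime (q i₀)).symm)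
        (hpd.trans (card_dvd_of_le hle))
    obtain ⟨k, hk⟩ : ∃ k, l i₀ = k + 1 := by
      refine ⟨l i₀ - 1, ?_⟩
      rcases Nat.eq_zero_or_pos (l i₀) with h0 | h0
      · exfalso
        have := hl i₀
        rw [h0] at this
        exact hp.coprime_iff_not_dvd.1 (pSeriesLE_zero.1 this).symm (hpd.trans (card_subgroup_dvd_card N))
      · omega
    have hR := CfsgLib.Solvable.pCore_normal (q i₀) G
    have hRb : Cfsg.pCore (q i₀) G ≠ ⊥ := fun e => hNb (le_bot_iff.1 (e ▸ CfsgLib.Solvable.le_pCore hN hpN))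
    classical
    have hl' : ∀ i, PSeriesLE (q i) (Function.update l i₀ k i) (G ⧸ Cfsg.pCore (q i₀) G) := by
      intro i
      rcases eq_or_ne i i₀ with rfl | hi
      · rw [Function.update_self]
        exact (hk ▸ hl i).quotient_pCore hO
      · rw [Function.update_of_ne hi]
        exact (hl i).quotient _
    have h1 := hquot _ hR hRb _ hl'
    have hsum : ∑ i, d i * l i = ∑ i, d i * Function.update l i₀ k i + d i₀ := by
      rw [← Finset.add_sum_erase _ _ (Finset.mem_univ i₀), ← Finset.add_sum_erase _ _ (Finset.mem_univ i₀),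
        Function.update_self, hk, Finset.sum_congr rfl fun i hi =>
          show d i * Function.update l i₀ k i = d i * l i by rw [Function.update_of_ne (Finset.ne_of_mem_erase hi)]]
      ring
    obtain ⟨S⟩ : Nonempty (Sylow (q i₀) G) := inferInstance
    rw [hsum]
    refine le_bot_iff.1 ((CfsgLib.Solvable.derivedSeries_add_le (h1.trans
      (CfsgLib.Solvable.pCore_le_sylow S)) (d i₀)).trans ?_)
    rw [hd i₀ S, Subgroup.map_bot]

end CfsgLib.PLength
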