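import Cfsg.Agent.Lib.PLength.Primitive

/-!
# The constrained property of `p`-solvable groups and a Frattini argument for coprime complements
-/

set_option autoImplicit false

namespace CfsgLib.PLength

open Subgroup
open scoped Pointwise

universe u

variable {G : Type u} [Group G] [Finite G]

/-- Frattini argument for a complement of a coprime normal subgroup. -/
theorem exists_complement_sup_normalizer {R T : Subgroup G} [R.Normal] [T.Normal] (hRT : R ≤ T)
    (hcop : (Nat.card R).Coprime (R.relIndex T)) (hsol : Group.IsSolvable R) :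
    ∃ Q : Subgroup G, Q ≤ T ∧ R ⊓ Q = ⊥ ∧ R ⊔ Q = T ∧ Nat.card Q = R.relIndex T ∧
      R ⊔ normalizer (Q : Set G) = ⊤ := by
  have hc : (Nat.card (R.subgroupOf T)).Coprime (R.subgroupOf T).index := by
    rwa [Nat.card_congr (subgroupOfEquivOfLe hRT).toEquiv]
  obtain ⟨K, hK⟩ := exists_right_complement'_of_coprime hc
  have hs : Group.IsSolvable (R.subgroupOf T) :=
    Group.isSolvable_of_surjective (f := (subgroupOfEquivOfLe hRT).symm.toMonoidHom)
      (subgroupOfEquivOfLe hRT).symm.surjective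
  refine ⟨K.map T.subtype, map_subtype_le K, ?_, ?_, ?_, ?_⟩
  · conv_lhs => rw [← map_subgroupOf_eq_of_le hRT]
    rw [← Subgroup.map_inf _ _ _ T.subtype_injective, hK.disjoint.eq_bot, Subgroup.map_bot]
  · conv_lhs => rw [← map_subgroupOf_eq_of_le hRT]
    rw [← Subgroup.map_sup, hK.sup_eq_top, ← MonoidHom.range_eq_map, range_subtype]
  · rw [card_map_of_injective T.subtype_injective, relIndex, hK.symm.index_eq_card]
  rw [eq_top_iff]
  intro g _
  let φ : T ≃* T := MulAut.conjNormal g
  have hcardK : Nat.card (K.map φ.toMonoidHom) = Nat.card K := card_map_of_injective φ.injective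
  have hK' : IsComplement' (R.subgroupOf T) (K.map φ.toMonoidHom) := by
    refine isComplement'_of_coprime ?_ ?_
    · rw [hcardK]; exact hK.card_mul_card
    · rw [hcardK, ← hK.symm.index_eq_card]; exact hc
  obtain ⟨w, hw, hwK⟩ :=
    CfsgLib.Solvable.exists_mem_conj_eq_of_isComplement' _ hc (Or.inl hs) hK hK'
  have hmem : (w : G)⁻¹ * g ∈ normalizer ((K.map T.subtype : Subgroup G) : Set G) := by
    refine mem_normalizer_iff_map_conj_eq.2 (eq_of_le_of_card_ge ?_
      (card_map_of_injective (MulAut.conj ((w : G)⁻¹ * g)).injective).ge)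
    rintro _ ⟨_, ⟨x, hx, rfl⟩, rfl⟩
    have h1 : φ x ∈ MulAut.conj w • K := by rw [hwK]; exact ⟨x, hx, rfl⟩
    obtain ⟨y, hy, he⟩ := (Subgroup.mem_smul_pointwise_iff_exists _ _ _).1 h1
    refine ⟨y, hy, ?_⟩
    have he' : (w : G) * y * (w : G)⁻¹ = g * x * g⁻¹ := congrArg Subtype.val he
    simp only [Subgroup.coe_subtype, MonoidHom.coe_coe, MulAut.conj_apply]
    calc (y : G) = (w : G)⁻¹ * ((w : G) * y * (w : G)⁻¹) * w := by group
      _ = (w : G)⁻¹ * g * x * ((w : G)⁻¹ * g)⁻¹ := by rw [he']; group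
  have : g = (w : G) * ((w : G)⁻¹ * g) := by group
  rw [this]
  exact mul_mem (mem_sup_left hw) (mem_sup_right hmem)

/-- Hall–Higman 1.2.3 for `p`-solvable groups. -/
theorem centralizer_pCore_le_of_isPSolvable {p : ℕ} [hp : Fact p.Prime]
    (hs : Cfsg.IsPSolvable p G) (hO : Cfsg.pPrimeCore p G = ⊥) :
    centralizer (Cfsg.pCore p G : Set G) ≤ Cfsg.pCore p G := by
  have hRn := CfsgLib.Solvable.pCore_normal p G
  set R := Cfsg.pCore p G with hR
  set C := centralizer (R : Set G) with hC
  have hCn : C.Normal := inferInstance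
  have hC'p : Cfsg.pPrimeCore p C = ⊥ := by
    have h := CfsgLib.Solvable.map_pPrimeCore_le (G := G) p C
    rw [hO, le_bot_iff] at h
    exact (map_eq_bot_iff_of_injective _ C.subtype_injective).1 h
  -- the `p`-core of `C` is central
  have hcen : ∀ c ∈ Cfsg.pCore p C, c ∈ center C := fun c hc => mem_center_iff.2 fun x =>
    Subtype.ext (mem_centralizer_iff.1 x.2 _
      (CfsgLib.Solvable.map_pCore_le (G := G) p C (mem_map_of_mem _ hc))).symm
  have hZn := CfsgLib.Solvable.pCore_normal p C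
  set Z := Cfsg.pCore p C with hZ
  intro c hc
  by_contra hcR
  have hne : Z ≠ ⊤ := fun e => hcR (CfsgLib.Solvable.map_pCore_le (G := G) p C
    (mem_map_of_mem C.subtype (show (⟨c, hc⟩ : C) ∈ Z by rw [e]; trivial)))
  have : Nontrivial (C ⧸ Z) := QuotientGroup.nontrivial_iff.2 hne
  obtain ⟨k, hk⟩ := exists_pSeriesLE_of_isPSolvable hs
  refine pCore_ne_bot_of_isPSolvable ((hk.subgroup C).quotient Z).isPSolvable ?_
    (CfsgLib.Solvable.pCore_quotient_eq_bot (G := C) p)
  -- the preimage of the `p'`-core splits over the central `Z`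
  have hWn := CfsgLib.Solvable.pPrimeCore_normal p (C ⧸ Z)
  set T := (Cfsg.pPrimeCore p (C ⧸ Z)).comap (QuotientGroup.mk' Z) with hT
  have hZT : Z ≤ T := QuotientGroup.le_comap_mk' _ _
  have hTn : T.Normal := inferInstance
  have hidx : (Z.relIndex T).Coprime p := by
    rw [hT, relIndex_comap_mk']
    exact CfsgLib.Solvable.pPrimeCore_coprime p
  have hcop : (Nat.card Z).Coprime (Z.relIndex T) := by
    obtain ⟨n, hn⟩ := IsPGroup.iff_card.1 (CfsgLib.Solvable.pCore_isPGroup (G := C) p)
    rw [hZ, hn]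
    exact hidx.symm.pow_left n
  have hsol : Group.IsSolvable Z := by
    have := (CfsgLib.Solvable.pCore_isPGroup (G := C) p).isNilpotent
    infer_instance
  obtain ⟨Q, -, -, hQT, hQc, hfr⟩ := exists_complement_sup_normalizer hZT hcop hsol
  have hQn : Q.Normal := normalizer_eq_top_iff.1 (top_le_iff.1 (hfr ▸ sup_le
    (fun z hz => centralizer_le_normalizer _ (mem_centralizer_iff.2 fun q _ =>
      mem_center_iff.1 (hcen z hz) q)) le_rfl))
  have hQb : Q = ⊥ := le_bot_iff.1 (hC'p ▸ CfsgLib.Solvable.le_pPrimeCore hQn (hQc ▸ hidx))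
  have hTZ : T ≤ Z := by rw [← hQT, hQb, sup_bot_eq]
  rw [← map_comap_eq_self_of_surjective (QuotientGroup.mk'_surjective Z) (Cfsg.pPrimeCore p (C ⧸ Z)),
    ← le_bot_iff]
  exact (map_mono hTZ).trans (QuotientGroup.map_mk'_self Z).le

end CfsgLib.PLength
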