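import Cfsg.Agent.Lib.PLength.Exponent
import Cfsg.Agent.Lib.PLength.Constrained
import Cfsg.Agent.Lib.HallHigman.LowCommute
import Cfsg.Agent.Lib.Coprime.Sylow
import Cfsg.Agent.Lib.Solvable.Frattini

/-!
# Hall and Higman's bound `l_p ≤ 2 e_p`
-/

set_option autoImplicit false

namespace CfsgLib.PLength

open Subgroup Module
open scoped commutatorElement

universe u v w

variable {p : ℕ} [hp : Fact p.Prime]

/-- Top powers of elements of a `p`-group of small degree commute, in a `p`-solvable linear group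
with trivial `p`-core. -/
theorem commute_pow_of_degree {F : Type u} [Field F] [CharP F p] {W : Type v} [AddCommGroup W]
    [Module F W] [FiniteDimensional F W] {M : Type w} [Group M] [Finite M]
    (ρ : Representation F M W) (hinj : Function.Injective ρ) (hs : Cfsg.IsPSolvable p M)
    (hO : Cfsg.pCore p M = ⊥) (hp2 : p ≠ 2) {n : ℕ} (hn : 1 ≤ n) {S : Subgroup M} (hS : IsPGroup p S)
    (hexp : ∀ z ∈ S, z ^ p ^ n = 1) (hdeg : ∀ z ∈ S, (ρ z - 1) ^ (p ^ n - 1) = 0) {z z' : M}
    (hz : z ∈ S) (hz' : z' ∈ S) : z ^ p ^ (n - 1) * z' ^ p ^ (n - 1) = z' ^ p ^ (n - 1) * z ^ p ^ (n - 1) := by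
  classical
  set y := z ^ p ^ (n - 1)
  set y' := z' ^ p ^ (n - 1)
  set c := ⁅y, y'⁆ with hc
  have hcS : c ∈ S := mul_mem (mul_mem (mul_mem (pow_mem hz _) (pow_mem hz' _)) (inv_mem (pow_mem hz _)))
    (inv_mem (pow_mem hz' _))
  set N := Cfsg.pPrimeCore p M with hNdef
  have hNn := CfsgLib.Solvable.pPrimeCore_normal p M
  have hSN : S ≤ normalizer (N : Set M) := by rw [Subgroup.normalizer_eq_top]; exact le_top
  have hcop : (Nat.card S).Coprime (Nat.card N) := by
    obtain ⟨j, hj⟩ := IsPGroup.iff_card.1 hS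
    rw [hj]
    exact (CfsgLib.Solvable.pPrimeCore_coprime p).symm.pow_left j
  have hsol : Group.IsSolvable S := by
    have := hS.isNilpotent
    infer_instance
  have hcent : c ∈ centralizer (N : Set M) := by
    set C := centralizer ({c} : Set M) ⊓ N
    have hCN : C = N := by
      refine Subgroup.eq_of_le_of_card_ge inf_le_right (Nat.le_of_dvd Nat.card_pos ?_)
      refine (Nat.dvd_iff_prime_pow_dvd_dvd _ _).2 fun q k hq hd => ?_
      rcases Nat.eq_zero_or_pos k with rfl | hk
      · simp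
      have hqp : q ≠ p := fun e => hp.out.coprime_iff_not_dvd.1
        (CfsgLib.Solvable.pPrimeCore_coprime p).symm (e ▸ (dvd_pow_self q hk.ne').trans hd)
      have := Fact.mk hq
      obtain ⟨P, hP⟩ := CfsgLib.Coprime.exists_invariant_sylow hSN hcop (Or.inl hsol) q
      set T := (P : Subgroup N).map N.subtype
      have hT : IsPGroup q T := P.2.map _
      refine (P.pow_dvd_card_of_pow_dvd_card hd).trans ?_
      rw [← Subgroup.card_map_of_injective (K := (P : Subgroup N)) N.subtype_injective]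
      refine Subgroup.card_dvd_of_le (le_inf (fun g hg => mem_centralizer_singleton_iff.2 ?_)
        (Subgroup.map_subtype_le _))
      by_cases hq2 : q = 2
      · subst hq2
        -- extend the scalars
        have := charP_of_injective_algebraMap (algebraMap F (AlgebraicClosure F)).injective p
        let b := Module.finBasis F W
        let ι := algebraMap F (AlgebraicClosure F)
        let Φ : Module.End F W →+* Module.End (AlgebraicClosure F) (Fin (finrank F W) → AlgebraicClosure F) :=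
          (Matrix.toLinAlgEquiv' (R := AlgebraicClosure F) (n := Fin (finrank F W))).toRingEquiv.toRingHom.comp
            ((ι.mapMatrix).comp (LinearMap.toMatrixAlgEquiv b).toRingEquiv.toRingHom)
        have hΦ : Function.Injective Φ := fun a c hac =>
          (LinearMap.toMatrixAlgEquiv b).injective (Matrix.map_injective ι.injective
            ((Matrix.toLinAlgEquiv' (R := AlgebraicClosure F) (n := Fin (finrank F W))).injective hac))
        let ρ' : Representation (AlgebraicClosure F) M (Fin (finrank F W) → AlgebraicClosure F) :=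
          Φ.toMonoidHom.comp ρ
        have hlow : ∀ z ∈ S, HallHigman.Low p ρ' S (z ^ p ^ (n - 1)) := fun z hz => by
          refine ⟨z, hz, n - 1, rfl, by rw [Nat.sub_add_cancel hn, hexp z hz, map_one], ?_⟩
          rw [Nat.sub_add_cancel hn]
          have hk' : Polynomial.aeval (ρ' z)
              ((Polynomial.X - 1) ^ (p ^ n - 1) : Polynomial (AlgebraicClosure F)) = 0 := by
            rw [map_pow, map_sub, Polynomial.aeval_X, map_one]
            show (Φ (ρ z) - 1) ^ _ = 0
            rw [← map_one Φ, ← map_sub, ← map_pow, hdeg z hz, map_zero]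
          refine lt_of_le_of_lt ((HallHigman.deg_le_of_aeval_eq_zero (pow_ne_zero _
            (by simpa using Polynomial.X_sub_C_ne_zero (1 : AlgebraicClosure F))) hk').trans ?_)
            (Nat.sub_lt (Nat.pos_of_ne_zero (pow_ne_zero n hp.out.ne_zero)) Nat.one_pos)
          rw [Polynomial.natDegree_pow,
            show (Polynomial.X - 1 : Polynomial (AlgebraicClosure F)) = Polynomial.X - Polynomial.C 1 by simp,
            Polynomial.natDegree_X_sub_C, mul_one]
        have h := HallHigman.commute_of_low hp2 _ ρ' rfl (T := T) hT hS hP (hlow z hz) (hlow z' hz') g hg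
        exact ((hinj (hΦ h))).symm
      · have hfix : ∀ z ∈ S, z ^ p ^ (n - 1) * g = g * z ^ p ^ (n - 1) := by
          intro z hz
          by_contra hne
          rcases HallHigman.exceptional_of_pow_eq_zero ρ hp.out hq hqp hT (hP hz) hn (hexp z hz)
            ⟨g, hg, fun e => hne (hinj e)⟩ (hdeg z hz) with h | ⟨a, b, ha, -, hb, hab, -, -⟩
          · have := Nat.one_le_pow n p hp.out.pos
            omega
          · exact hq2 (eq_two_pow_add_one_of_exceptional hp2 hq ha hb hab).1
        have h1 : y ∈ centralizer {g} := mem_centralizer_singleton_iff.2 (hfix z hz)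
        have h2 : y' ∈ centralizer {g} := mem_centralizer_singleton_iff.2 (hfix z' hz')
        exact (mem_centralizer_singleton_iff.1 (mul_mem (mul_mem (mul_mem h1 h2) (inv_mem h1)) (inv_mem h2))).symm
    exact mem_centralizer_iff.2 fun g hg =>
      mem_centralizer_singleton_iff.1 ((hCN.symm ▸ hg : g ∈ C)).1
  have hcN : c ∈ N := CfsgLib.BlockB.centralizer_pPrimeCore_le_of_isPSolvable hs hO hcent
  have hc1 : c = 1 := by
    rw [← orderOf_eq_one_iff]
    exact Nat.eq_one_of_dvd_coprimes hcop (Subgroup.orderOf_dvd_natCard _ hcS)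
      (Subgroup.orderOf_dvd_natCard _ hcN)
  exact commutatorElement_eq_one_iff_mul_comm.1 hc1

/-- An element acting trivially on `O_p / Φ(O_p)` is a `p`-element, when `O_{p'} = 1`. -/
theorem mem_pCore_of_trivial_mod_frattini {H : Type w} [Group H] [Finite H]
    (hs : Cfsg.IsPSolvable p H) (hO : Cfsg.pPrimeCore p H = ⊥) {K : Subgroup H} [K.Normal]
    (hK : ∀ k ∈ K, ∀ u ∈ Cfsg.pCore p H,
      k * u * k⁻¹ * u⁻¹ ∈ (frattini (Cfsg.pCore p H)).map (Cfsg.pCore p H).subtype) :
    K ≤ Cfsg.pCore p H := by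
  set U := Cfsg.pCore p H with hU
  have hUn := CfsgLib.Solvable.pCore_normal p H
  have hUp := CfsgLib.Solvable.pCore_isPGroup (G := H) p
  refine CfsgLib.Solvable.le_pCore inferInstance fun k => ?_
  obtain ⟨a, r, hr, hkr⟩ := Nat.exists_eq_pow_mul_and_not_dvd (orderOf_pos k).ne' p hp.out.ne_one
  refine ⟨a, ?_⟩
  set g : H := ((k ^ p ^ a : K) : H) with hg
  suffices g = 1 from Subtype.ext this
  have hgr : g ^ r = 1 := by
    rw [hg, ← SubgroupClass.coe_pow, ← pow_mul, ← hkr, pow_orderOf_eq_one, OneMemClass.coe_one]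
  set A := zpowers g
  have hAU : A ≤ normalizer (U : Set H) := by rw [Subgroup.normalizer_eq_top]; exact le_top
  have hrp : r.Coprime p := (hp.out.coprime_iff_not_dvd.2 hr).symm
  have hcop : (Nat.card A).Coprime (Nat.card U) := by
    obtain ⟨j, hj⟩ := IsPGroup.iff_card.1 hUp
    rw [hj, Nat.card_zpowers]
    exact (hrp.pow_right j).coprime_dvd_left (orderOf_dvd_of_pow_eq_one hgr)
  have hAK : A ≤ K := Subgroup.zpowers_le.2 (k ^ p ^ a).2
  have hle : ⁅U, A⁆ ≤ (frattini U).map U.subtype := by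
    rw [commutator_comm]
    exact commutator_le.2 fun k hk u hu => by rw [commutatorElement_def]; exact hK k (hAK hk) u hu
  have htop : (U ⊓ centralizer (A : Set H)).subgroupOf U = ⊤ := by
    refine CfsgLib.Solvable.eq_top_of_sup_eq_top_of_le_frattini (le_refl (frattini U)) (eq_top_iff.2 fun x _ => ?_)
    obtain ⟨c, hc, t, ht, e⟩ := CfsgLib.Coprime.exists_mul_eq hAU hcop
      (Or.inl (by open scoped IsMulCommutative in exact inferInstance)) x.2
    obtain ⟨t', ht', rfl⟩ := hle ht
    exact (show x = ⟨c, hc.1⟩ * t' from Subtype.ext e.symm) ▸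
      mul_mem (mem_sup_left hc) (mem_sup_right ht')
  have hgC : g ∈ centralizer (U : Set H) := mem_centralizer_iff.2 fun u hu => by
    have h : (⟨u, hu⟩ : U) ∈ (U ⊓ centralizer (A : Set H)).subgroupOf U := htop ▸ mem_top _
    exact (mem_centralizer_iff.1 h.2 g (mem_zpowers g)).symm
  rw [← orderOf_eq_one_iff]
  exact Nat.eq_one_of_dvd_coprimes hcop
    ((Nat.card_zpowers g).symm ▸ dvd_rfl)
    (Subgroup.orderOf_dvd_natCard _ (centralizer_pCore_le_of_isPSolvable hs hO hgC))

/-- An element whose top power commutes with the top powers of its translates by `O_p` has that top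
power in `O_p`. -/
theorem pow_mem_pCore_of_commute {H : Type w} [Group H] [Finite H] (hHs : Cfsg.IsPSolvable p H)
    (hHO : Cfsg.pPrimeCore p H = ⊥) (hp2 : p ≠ 2) {n : ℕ} (hn : 1 ≤ n) {x : H} (hxn : x ^ p ^ n = 1)
    (hcomm : ∀ u ∈ Cfsg.pCore p H,
      (u * x) ^ p ^ (n - 1) * x ^ p ^ (n - 1) = x ^ p ^ (n - 1) * (u * x) ^ p ^ (n - 1)) :
    x ^ p ^ (n - 1) ∈ Cfsg.pCore p H := by
  classical
  set U := Cfsg.pCore p H with hUdef
  have hUn := CfsgLib.Solvable.pCore_normal p H
  have hUp := CfsgLib.Solvable.pCore_isPGroup (G := H) p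
  set y := x ^ p ^ (n - 1) with hy
  set Φ₀ : Subgroup H := (frattini U).map U.subtype with hΦ₀
  have hΦn : Φ₀.Normal := ConjAct.normal_of_characteristic_of_normal
  set π := QuotientGroup.mk' Φ₀
  set Ub : Subgroup (H ⧸ Φ₀) := U.map π
  have hEl : ElemNormal p Ub :=
    { normal := hUn.map π (QuotientGroup.mk'_surjective Φ₀)
      comm := by
        rintro _ ⟨a, ha, rfl⟩ _ ⟨b, hb, rfl⟩
        rw [← map_mul, ← map_mul, QuotientGroup.mk'_apply, QuotientGroup.mk'_apply, QuotientGroup.eq]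
        refine ⟨_, StructC.comm_mem_frattini hUp (⟨b, hb⟩ : U) (⟨a, ha⟩ : U), ?_⟩
        simp [mul_assoc]
      exponent := by
        rintro _ ⟨a, ha, rfl⟩
        rw [← map_pow, QuotientGroup.mk'_apply, QuotientGroup.eq_one_iff]
        exact ⟨_, StructC.pow_mem_frattini hUp (⟨a, ha⟩ : U), rfl⟩ }
  set τ := hEl.conjRep.comp π with hτ
  by_contra hyU
  -- the kernel is `U`
  have hker : τ.ker ≤ U := mem_pCore_of_trivial_mod_frattini hHs hHO fun k hk u hu => by
    have h1 := hEl.conjRep_eq_one.1 (show hEl.conjRep (π k) = 1 from hk) (π u) (mem_map_of_mem π hu)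
    rw [← QuotientGroup.eq_one_iff]
    show π (k * u * k⁻¹ * u⁻¹) = 1
    rw [map_mul, map_mul, map_mul, map_inv, map_inv, h1, mul_inv_cancel_right, mul_inv_cancel]
  have hUker : U ≤ τ.ker := fun u hu => hEl.conjRep_eq_one.2 fun a ha => hEl.comm _ (mem_map_of_mem π hu) a ha
  have hkerU : τ.ker = U := le_antisymm hker hUker
  let σ : Representation (ZMod p) (H ⧸ U) hEl.Space := QuotientGroup.lift U τ hUker
  have hσ : ∀ h : H, σ (h : H ⧸ U) = τ h := fun h => QuotientGroup.lift_mk' _ _ h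
  have hσinj : Function.Injective σ := by
    intro a b hab
    obtain ⟨a, rfl⟩ := QuotientGroup.mk_surjective a
    obtain ⟨b, rfl⟩ := QuotientGroup.mk_surjective b
    rw [hσ, hσ] at hab
    exact QuotientGroup.eq.2 (hkerU ▸ MonoidHom.mem_ker.2 (by
      rw [map_mul, ← hab, ← map_mul, inv_mul_cancel, map_one]))
  have hσs : Cfsg.IsPSolvable p (H ⧸ U) := by
    obtain ⟨j, hj⟩ := exists_pSeriesLE_of_isPSolvable hHs
    exact (hj.quotient U).isPSolvable
  have hord : orderOf (x : H ⧸ U) = p ^ n := by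
    obtain ⟨j, hj, he⟩ := (Nat.dvd_prime_pow hp.out).1
      (orderOf_dvd_of_pow_eq_one (show (x : H ⧸ U) ^ p ^ n = 1 by
        rw [← QuotientGroup.mk_pow, hxn]; rfl))
    rcases eq_or_lt_of_le hj with rfl | hlt
    · exact he
    refine absurd ?_ hyU
    rw [hy, ← QuotientGroup.eq_one_iff, QuotientGroup.mk_pow]
    exact orderOf_dvd_iff_pow_eq_one.1 (he ▸ pow_dvd_pow p (by omega))
  set q := p ^ (n - 1) with hq
  have hq0 : 1 ≤ q := Nat.one_le_pow _ _ hp.out.pos
  set X := τ x with hX
  have hXq : τ y - 1 = (X - 1) ^ q := by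
    rw [hy, map_pow, ← hX, hq]
    have h := congrArg (Polynomial.aeval X)
      (sub_pow_char_pow (p := p) (n := n - 1) (Polynomial.X : Polynomial (ZMod p)) 1)
    simpa using h.symm
  have hk : (X - 1) ^ (2 * q - 1) = 0 := by
    refine LinearMap.ext fun v => ?_
    obtain ⟨⟨_, u, hu, rfl⟩, rfl⟩ := hEl.vec.surjective v
    set s := (X - 1) ^ (q - 1)
    have hsum : ((π u) * π x) ^ q = (hEl.vec.symm (s (hEl.vec ⟨π u, u, hu, rfl⟩)) : H ⧸ Φ₀) * π x ^ q := by
      rw [hEl.mul_pow_eq (π x) ⟨π u, u, hu, rfl⟩, hq, sum_pow_eq_sub_one_pow]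
      rfl
    have h1 := congrArg π (hcomm u hu)
    rw [map_mul, map_mul, map_pow, map_mul, hy, map_pow, hsum] at h1
    have h2 : (hEl.conjRep (π x ^ q) - 1) (s (hEl.vec ⟨π u, u, hu, rfl⟩)) = 0 := by
      obtain ⟨w, hw⟩ := hEl.vec.surjective (s (hEl.vec ⟨π u, u, hu, rfl⟩))
      rw [← hw, Equiv.symm_apply_apply] at h1
      rw [← hw, hEl.conjRep_sub_one_vec, hEl.vec_eq_zero]
      refine Subtype.ext ?_
      show π x ^ q * (w : H ⧸ Φ₀) * (π x ^ q)⁻¹ * (w : H ⧸ Φ₀)⁻¹ = 1
      have h3 := mul_right_cancel ((mul_assoc (π x ^ q) (w : H ⧸ Φ₀) (π x ^ q)).trans h1.symm)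
      rw [h3, mul_inv_cancel_right, mul_inv_cancel]
    rw [LinearMap.zero_apply, show 2 * q - 1 = q + (q - 1) by omega, pow_add, Module.End.mul_apply,
      ← hXq, hy, hτ, MonoidHom.comp_apply, map_pow π]
    exact h2
  obtain ⟨r, Q, hr, hrp, -, -, hB⟩ := HallHigman.exceptional_of_isPSolvable σ hσinj hσs
    (CfsgLib.Solvable.pCore_quotient_eq_bot (G := H) p) hn hord (k := 2 * q - 1) (by rw [hσ]; exact hk)
  have hp3 : 3 ≤ p := by have := hp.out.two_le; omega
  have h3q : p ^ n = q * p := by rw [hq, ← pow_succ, Nat.sub_add_cancel hn]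
  rcases hB with h | ⟨a, b, ha, han, hb, hab, hle, -⟩
  · rw [h3q] at h
    have := Nat.mul_le_mul_left q hp3
    omega
  · have h4 : p ^ (n - a) * p ^ a = p ^ n := by rw [← pow_add, Nat.sub_add_cancel han]
    have h5 : p ^ (n - a) ≤ q := Nat.pow_le_pow_right hp.out.pos (by omega)
    have h6 : 3 * q ≤ p ^ (n - a) * p ^ a := by rw [h4, h3q]; nlinarith
    rw [hab, mul_add, mul_one] at h6
    omega

/-- In the top of a primitive group, top powers of `p`-elements lie in `O_{p',p}`. -/
theorem pow_mem_pCore_quotient {F : Type u} [Field F] [CharP F p] {W : Type v} [AddCommGroup W]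
    [Module F W] [FiniteDimensional F W] {M : Type w} [Group M] [Finite M]
    (ρ : Representation F M W) (hinj : Function.Injective ρ) (hs : Cfsg.IsPSolvable p M)
    (hO : Cfsg.pCore p M = ⊥) (hp2 : p ≠ 2) {n : ℕ} (hn : 1 ≤ n)
    (hexp : ∀ S : Sylow p M, ∀ z ∈ (S : Subgroup M), z ^ p ^ n = 1)
    (hdeg : ∀ S : Sylow p M, ∀ z ∈ (S : Subgroup M), (ρ z - 1) ^ (p ^ n - 1) = 0)
    [(Cfsg.pPrimeCore p M).Normal] (S : Sylow p (M ⧸ Cfsg.pPrimeCore p M)) {x : M ⧸ Cfsg.pPrimeCore p M}
    (hx : x ∈ (S : Subgroup (M ⧸ Cfsg.pPrimeCore p M))) :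
    x ^ p ^ (n - 1) ∈ Cfsg.pCore p (M ⧸ Cfsg.pPrimeCore p M) := by
  have hs' : Cfsg.IsPSolvable p (M ⧸ Cfsg.pPrimeCore p M) := by
    obtain ⟨j, hj⟩ := exists_pSeriesLE_of_isPSolvable hs
    exact (hj.quotient _).isPSolvable
  obtain ⟨S₀, rfl⟩ := Sylow.mapSurjective_surjective (QuotientGroup.mk'_surjective _) p S
  obtain ⟨x₁, hx₁, rfl⟩ : x ∈ (S₀ : Subgroup M).map (QuotientGroup.mk' (Cfsg.pPrimeCore p M)) := hx
  refine pow_mem_pCore_of_commute hs' (CfsgLib.Solvable.pPrimeCore_quotient_eq_bot (G := M) p) hp2 hn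
    (by rw [← map_pow, hexp S₀ x₁ hx₁, map_one]) fun u hu => ?_
  obtain ⟨u₁, hu₁, rfl⟩ : u ∈ (S₀ : Subgroup M).map (QuotientGroup.mk' (Cfsg.pPrimeCore p M)) :=
    CfsgLib.Solvable.pCore_le_sylow (Sylow.mapSurjective (QuotientGroup.mk'_surjective _) S₀) hu
  rw [← map_mul, ← map_pow, ← map_pow, ← map_mul, ← map_mul,
    commute_pow_of_degree ρ hinj hs hO hp2 hn S₀.2 (hexp S₀) (hdeg S₀) (mul_mem hu₁ hx₁) hx₁]

/-- Hall and Higman: `l_p ≤ 2 e_p` for odd `p`. -/
theorem pSeriesLE_two_mul_exponent (hp2 : p ≠ 2) : ∀ (e : ℕ) {G : Type w} [Group G] [Finite G],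
    Cfsg.IsPSolvable p G → (∀ S : Sylow p G, ∀ x ∈ (S : Subgroup G), x ^ p ^ e = 1) →
    PSeriesLE p (2 * e) G := by
  classical
  intro e
  induction e with
  | zero =>
    intro G _ _ _ h
    refine pSeriesLE_zero.2 (coprime_card_of_sylow_subsingleton fun S => ⟨fun a b => ?_⟩)
    have h1 := h S _ a.2
    have h2 := h S _ b.2
    rw [pow_zero, pow_one] at h1 h2
    exact Subtype.ext (h1.trans h2.symm)
  | succ e ih =>
    intro G _ _
    generalize hN : Nat.card G = N
    induction N using Nat.strong_induction_on generalizing G with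
    | _ N ihN =>
    intro hs hexp
    subst hN
    by_contra hG
    have hq : ∀ A : Subgroup G, ∀ _ : A.Normal, A ≠ ⊥ → PSeriesLE p (2 * e + 1 + 1) (G ⧸ A) := by
      intro A hA hAb
      refine ihN _ ?_ rfl ?_ fun S x hx => ?_
      · have h1 : Nat.card (G ⧸ A) * Nat.card A = Nat.card G :=
          (Subgroup.card_eq_card_quotient_mul_card_subgroup A).symm
        have h2 : 1 < Nat.card A := A.one_lt_card_iff_ne_bot.2 hAb
        have h3 : 0 < Nat.card (G ⧸ A) := Nat.card_pos
        nlinarith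
      · obtain ⟨j, hj⟩ := exists_pSeriesLE_of_isPSolvable hs
        exact (hj.quotient A).isPSolvable
      · obtain ⟨P, φ, hφ⟩ := exists_sylow_surjective (QuotientGroup.mk'_surjective A) S
        obtain ⟨y, hy⟩ := hφ ⟨x, hx⟩
        have h1 := congrArg φ (show y ^ p ^ (e + 1) = 1 from Subtype.ext (hexp P _ y.2))
        rw [map_pow, hy, map_one] at h1
        exact congrArg Subtype.val h1
    obtain ⟨V, M, hVM, hM⟩ := exists_primitiveConfig hs (k := 2 * e + 1) hG hq
    apply hM
    have hN := hVM.elemNormal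
    have := hVM.normal
    have hMs := isPSolvable_subgroup hs M
    set ρ := hN.conjRep.comp M.subtype with hρ
    have hinj : Function.Injective ρ := (injective_iff_map_eq_one _).2 fun m hm => Subtype.ext (by
      have hmem : (m : G) ∈ V ⊓ M := ⟨hVM.centralizer_le (mem_centralizer_iff.2 fun a ha =>
        (hN.conjRep_eq_one.1 hm a ha).symm), m.2⟩
      rwa [hVM.inf_eq, mem_bot] at hmem)
    have hexpM : ∀ S : Sylow p M, ∀ z ∈ (S : Subgroup M), z ^ p ^ (e + 1) = 1 := by
      intro S z hz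
      obtain ⟨P, φ, -, hφ⟩ := exists_sylow_injective S
      refine Subtype.ext ?_
      rw [SubgroupClass.coe_pow, OneMemClass.coe_one, ← hφ ⟨z, hz⟩]
      exact hexp P _ (φ ⟨z, hz⟩).2
    have hdeg : ∀ S : Sylow p M, ∀ z ∈ (S : Subgroup M), (ρ z - 1) ^ (p ^ (e + 1) - 1) = 0 := by
      intro S z hz
      refine hN.sub_one_pow_eq_zero fun a ha =>
        mul_pow_eq_one_of_sylow hVM.isPGroup hexp (x := (z : G)) (j := e + 1) ?_ ha
      rw [← SubgroupClass.coe_pow, hexpM S z hz, OneMemClass.coe_one]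
    set O := Cfsg.pPrimeCore p M with hOdef
    have hOn := CfsgLib.Solvable.pPrimeCore_normal p M
    refine PSeriesLE.of_quotient_pPrime O (CfsgLib.Solvable.pPrimeCore_coprime p) ?_
    set U := Cfsg.pCore p (M ⧸ O)
    have hUn := CfsgLib.Solvable.pCore_normal p (M ⧸ O)
    refine PSeriesLE.of_quotient_pgroup U (CfsgLib.Solvable.pCore_isPGroup p) (ih ?_ fun S x hx => ?_)
    · obtain ⟨j, hj⟩ := exists_pSeriesLE_of_isPSolvable hMs
      exact ((hj.quotient O).quotient U).isPSolvable
    · obtain ⟨S', hS'⟩ := Sylow.mapSurjective_surjective (QuotientGroup.mk'_surjective U) p S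
      obtain ⟨x', hx', rfl⟩ : x ∈ (S' : Subgroup (M ⧸ O)).map (QuotientGroup.mk' U) := by
        rw [← hS'] at hx; exact hx
      rw [← map_pow, QuotientGroup.mk'_apply, QuotientGroup.eq_one_iff]
      exact pow_mem_pCore_quotient ρ hinj hMs hVM.pCore_complement hp2 (n := e + 1) (by omega) hexpM hdeg S' hx'

end CfsgLib.PLength
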