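import Cfsg.Agent.Lib.PLength.ExponentTwo
import Cfsg.Agent.Lib.Complement.SymFour
import Cfsg.Agent.Lib.Complement.TwoTools

/-!
# A cyclic normal subgroup of a Sylow `p`-subgroup lies in `O_{p',p}`
-/

set_option autoImplicit false

namespace CfsgLib.PLength

open Subgroup Module
open scoped commutatorElement

universe u v w

variable {p : ℕ} [hp : Fact p.Prime] {H : Type u} [Group H] [Finite H]

section Transvection

variable {W : Type v} [AddCommGroup W] [Module (ZMod p) W]

/-- Two transvections in characteristic two generate a dihedral group of order dividing six. -/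
theorem pow_three_eq_one_of_transvections {L : Type w} [Group L] [Finite L] [FiniteDimensional (ZMod p) W]
    (hp2 : p = 2) (σ : Representation (ZMod p) L W) (hinj : Function.Injective σ) {a b : L}
    (ha : finrank (ZMod p) (LinearMap.range (σ a - 1)) ≤ 1)
    (hb : finrank (ZMod p) (LinearMap.range (σ b - 1)) ≤ 1) (hodd : Odd (orderOf (a * b))) :
    (a * b) ^ 3 = 1 := by
  subst hp2
  classical
  set h := a * b
  set T := LinearMap.range (σ h - 1) with hT
  have hdim : finrank (ZMod 2) T ≤ 2 := by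
    have hle : T ≤ LinearMap.range (σ a - 1) ⊔ LinearMap.range (σ b - 1) := by
      rintro _ ⟨v, rfl⟩
      have e : (σ h - 1) v = (σ a - 1) (σ b v) + (σ b - 1) v := by
        simp only [h, map_mul, LinearMap.sub_apply, Module.End.mul_apply, Module.End.one_apply]
        abel
      rw [e]
      exact Submodule.add_mem_sup ⟨_, rfl⟩ ⟨_, rfl⟩
    have h1 := Submodule.finrank_mono hle
    have h2 := Submodule.finrank_add_le_finrank_add_finrank (LinearMap.range (σ a - 1))
      (LinearMap.range (σ b - 1))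
    omega
  set m := orderOf h with hm
  have hm1 : (m : ZMod 2) = 1 := ZMod.natCast_eq_one_iff_odd.2 hodd
  have hpow : σ h ^ m = 1 := by rw [← map_pow, hm, pow_orderOf_eq_one, map_one]
  -- nothing nonzero is fixed in the range
  have hfix : ∀ t ∈ T, σ h t = t → t = 0 := by
    rintro _ ⟨v, rfl⟩ ht
    have hk : ∀ k : ℕ, (σ h ^ k) v = v + (k : ZMod 2) • (σ h - 1) v := by
      intro k
      induction k with
      | zero => simp
      | succ k ih =>
        rw [pow_succ', Module.End.mul_apply, ih, map_add, map_smul, ht, Nat.cast_succ, add_smul, one_smul,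
          LinearMap.sub_apply, Module.End.one_apply]
        abel
    have h1 := hk m
    rw [hpow, Module.End.one_apply, hm1, one_smul, left_eq_add] at h1
    exact h1
  have hTinv : ∀ t ∈ T, σ h t ∈ T := by
    rintro _ ⟨v, rfl⟩
    exact ⟨σ h v, by simp [LinearMap.sub_apply, map_sub]⟩
  have h3 : ∀ t ∈ T, σ (h ^ 3) t = t := by
    intro t ht
    by_cases ht0 : t = 0
    · rw [ht0, map_zero]
    rw [map_pow, pow_succ', pow_two, Module.End.mul_apply, Module.End.mul_apply]
    set t1 := σ h t with ht1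
    set t2 := σ h t1 with ht2
    have hi : Function.Injective (σ h) := fun u v e => by
      rw [← HallHigman.rep_inv_apply_self σ h u, e, HallHigman.rep_inv_apply_self]
    have h10 : t1 ≠ 0 := fun e => ht0 (hi (e.trans (map_zero _).symm))
    have h20 : t2 ≠ 0 := fun e => h10 (hi (e.trans (map_zero _).symm))
    have h01 : t1 ≠ t := fun e => ht0 (hfix t ht e)
    have h12 : t2 ≠ t1 := fun e => h01 (hi e)
    have h02 : t2 ≠ t := by
      intro e
      -- a fixed vector of the square is fixed, as the order is odd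
      refine h01 ?_
      obtain ⟨k, hk⟩ := hodd
      have hsq : ∀ j : ℕ, ((σ h ^ 2) ^ j) t = t := fun j => by
        induction j with
        | zero => rfl
        | succ j ih => rw [pow_succ', Module.End.mul_apply, ih, pow_two, Module.End.mul_apply]; exact e
      have h1 : (σ h ^ m) t = t := by rw [hpow, Module.End.one_apply]
      rwa [hk, pow_succ', Module.End.mul_apply, pow_mul, hsq] at h1
    have : Finite T := Module.finite_of_finite (ZMod 2)
    have : Fintype T := Fintype.ofFinite _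
    have hcard : Fintype.card T ≤ 4 := by
      rw [← Nat.card_eq_fintype_card, Module.natCard_eq_pow_finrank (K := ZMod 2), Nat.card_zmod]
      calc 2 ^ finrank (ZMod 2) T ≤ 2 ^ 2 := Nat.pow_le_pow_right two_pos hdim
        _ = 4 := rfl
    have ht3 : σ h t2 ∈ T := hTinv _ (hTinv _ (hTinv _ ht))
    by_contra hne
    have h31 : σ h t2 ≠ t1 := fun e => h02 (hi e)
    have h32 : σ h t2 ≠ t2 := fun e => h12 (hi e)
    have h30 : σ h t2 ≠ 0 := fun e => h20 (hi (e.trans (map_zero _).symm))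
    let s : Finset T := {0, ⟨t, ht⟩, ⟨t1, hTinv _ ht⟩, ⟨t2, hTinv _ (hTinv _ ht)⟩, ⟨σ h t2, ht3⟩}
    have hs : s.card = 5 := by
      simp only [s]
      rw [Finset.card_insert_of_notMem, Finset.card_insert_of_notMem, Finset.card_insert_of_notMem,
        Finset.card_insert_of_notMem, Finset.card_singleton]
      all_goals simp only [Finset.mem_insert, Finset.mem_singleton, Subtype.ext_iff, Submodule.coe_zero,
        not_or]
      · exact h32.symm
      · exact ⟨h12.symm, h31.symm⟩
      · exact ⟨h01.symm, h02.symm, fun e => hne e.symm⟩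
      · exact ⟨Ne.symm ht0, h10.symm, h20.symm, h30.symm⟩
    have := s.card_le_univ
    omega
  have h3T : ∀ v, σ (h ^ 3) v - v ∈ T := fun v => by
    rw [map_pow]
    have : (σ h ^ 3) v - v = (σ h - 1) ((σ h ^ 2) v + σ h v + v) := by
      simp only [LinearMap.sub_apply, Module.End.one_apply, map_add, pow_succ, pow_zero, one_mul,
        Module.End.mul_apply]
      abel
    rw [this]
    exact ⟨_, rfl⟩
  refine hinj ?_
  rw [map_one]
  refine HallHigman.eq_one_of_unipotent (m := m) ?_ (by rw [hm1]; exact one_ne_zero) h3 h3T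
  rw [← map_pow, ← pow_mul, mul_comm, pow_mul, hm, pow_orderOf_eq_one, one_pow, map_one]

end Transvection

/-- With `O_{p'} = 1`, a cyclic subgroup normalised by a Sylow `p`-subgroup containing it is in `O_p`,
unless `p = 2` and `S₄` is a section. -/
theorem mem_pCore_of_cyclic_normal (hs : Cfsg.IsPSolvable p H) (hO : Cfsg.pPrimeCore p H = ⊥)
    (S : Sylow p H) {g : H} (hgS : g ∈ (S : Subgroup H))
    (hSn : (S : Subgroup H) ≤ normalizer (zpowers g : Set H))
    (hh : p ≠ 2 ∨ ¬ Cfsg.Involves (Equiv.Perm (Fin 4)) H) : g ∈ Cfsg.pCore p H := by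
  classical
  set U := Cfsg.pCore p H with hUdef
  have hUn := CfsgLib.Solvable.pCore_normal p H
  have hUp := CfsgLib.Solvable.pCore_isPGroup (G := H) p
  set Φ₀ : Subgroup H := (frattini U).map U.subtype with hΦ₀
  have hΦn : Φ₀.Normal := ConjAct.normal_of_characteristic_of_normal
  set π := QuotientGroup.mk' Φ₀
  set Ub : Subgroup (H ⧸ Φ₀) := U.map π
  have hEl : ElemNormal p Ub :=
    { normal := hUn.map π (QuotientGroup.mk'_surjective Φ₀)
      comm := by
        rintro _ ⟨a, ha, rfl⟩ _ ⟨b, hb, rfl⟩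
        rw [← map_mul, ← map_mul, QuotientGroup.mk'_apply, QuotientGroup.mk'_apply, QuotientGroup.eq]
        refine ⟨_, StructC.comm_mem_frattini hUp (⟨b, hb⟩ : U) (⟨a, ha⟩ : U), ?_⟩
        simp [mul_assoc]
      exponent := by
        rintro _ ⟨a, ha, rfl⟩
        rw [← map_pow, QuotientGroup.mk'_apply, QuotientGroup.eq_one_iff]
        exact ⟨_, StructC.pow_mem_frattini hUp (⟨a, ha⟩ : U), rfl⟩ }
  set τ := hEl.conjRep.comp π with hτ
  have hUker : U ≤ τ.ker := fun u hu => hEl.conjRep_eq_one.2 fun a ha => hEl.comm _ (mem_map_of_mem π hu) a ha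
  have hker : τ.ker ≤ U := mem_pCore_of_trivial_mod_frattini hs hO fun k hk u hu => by
    have h1 := hEl.conjRep_eq_one.1 (show hEl.conjRep (π k) = 1 from hk) (π u) (mem_map_of_mem π hu)
    rw [← QuotientGroup.eq_one_iff]
    show π (k * u * k⁻¹ * u⁻¹) = 1
    rw [map_mul, map_mul, map_mul, map_inv, map_inv, h1, mul_inv_cancel_right, mul_inv_cancel]
  by_contra hgU
  set X := τ g - 1 with hX
  -- `[U, g]` lies in `U ∩ ⟨g⟩`, a subgroup of `⟨g ^ p⟩`
  have hcomm : ∀ u ∈ U, g * u * g⁻¹ * u⁻¹ ∈ zpowers g := fun u hu => by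
    have h1 := HallHigman.conj_mem_of_mem_normalizer (hSn (CfsgLib.Solvable.pCore_le_sylow S hu))
      (inv_mem (mem_zpowers g))
    rw [show g * u * g⁻¹ * u⁻¹ = g * (u * g⁻¹ * u⁻¹) by group]
    exact mul_mem (mem_zpowers g) h1
  obtain ⟨j, hj⟩ := (S.2 ⟨g, hgS⟩)
  have hgj : g ^ p ^ j = 1 := congrArg Subtype.val hj
  have hpow : ∀ i : ℤ, g ^ i ∈ U → ∃ k : ℤ, g ^ i = (g ^ p) ^ k := by
    intro i hi
    by_cases hd : (p : ℤ) ∣ i
    · obtain ⟨k, rfl⟩ := hd
      exact ⟨k, by rw [zpow_mul, zpow_natCast]⟩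
    refine absurd ?_ hgU
    have hco : IsCoprime i ((p : ℤ) ^ j) :=
      ((Nat.prime_iff_prime_int.1 hp.out).coprime_iff_not_dvd.2 hd).symm.pow_right
    obtain ⟨a, b, hab⟩ := hco
    have : g = (g ^ i) ^ a := by
      rw [← zpow_mul, mul_comm i a]
      conv_lhs => rw [← zpow_one g, ← hab]
      rw [zpow_add, mul_comm b, zpow_mul g ((p : ℤ) ^ j), ← Nat.cast_pow, zpow_natCast, hgj, one_zpow, mul_one]
    rw [this]
    exact zpow_mem hi a
  have hval : ∀ u (hu : u ∈ U), X (hEl.vec ⟨π u, mem_map_of_mem π hu⟩)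
      = hEl.vec ⟨π (g * u * g⁻¹ * u⁻¹), mem_map_of_mem π (mul_mem (hUn.conj_mem u hu g) (inv_mem hu))⟩ := by
    intro u hu
    rw [hX, hτ, MonoidHom.comp_apply, hEl.conjRep_sub_one_vec]
    exact congrArg hEl.vec (Subtype.ext (by simp))
  have hX2 : X * X = 0 := by
    refine LinearMap.ext fun v => ?_
    obtain ⟨⟨_, u, hu, rfl⟩, rfl⟩ := hEl.vec.surjective v
    rw [Module.End.mul_apply, hval u hu, hval _ (mul_mem (hUn.conj_mem u hu g) (inv_mem hu)),
      LinearMap.zero_apply, hEl.vec_eq_zero]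
    refine Subtype.ext ?_
    show π _ = 1
    obtain ⟨i, hi⟩ := Subgroup.mem_zpowers_iff.1 (hcomm u hu)
    rw [← map_one π, ← hi]
    congr 1
    group
  have hgp : g ^ p ∈ U := hker (MonoidHom.mem_ker.2 (by
    have h1 := congrArg (Polynomial.aeval (τ g))
      (sub_pow_char_pow (p := p) (n := 1) (Polynomial.X : Polynomial (ZMod p)) 1)
    simp only [map_pow, map_sub, Polynomial.aeval_X, map_one, pow_one, one_pow] at h1
    rw [← hX, pow_eq_zero_of_le hp.out.two_le (by rw [pow_two, hX2] : X ^ 2 = 0)] at h1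
    rw [map_pow]
    exact sub_eq_zero.1 h1.symm))
  set t := hEl.vec ⟨π (g ^ p), mem_map_of_mem π hgp⟩ with ht
  have hrange : ∀ v, ∃ c : ZMod p, X v = c • t := by
    intro v
    obtain ⟨⟨_, u, hu, rfl⟩, rfl⟩ := hEl.vec.surjective v
    obtain ⟨i, hi⟩ := Subgroup.mem_zpowers_iff.1 (hcomm u hu)
    obtain ⟨k, hk⟩ := hpow i (hi ▸ mul_mem (hUn.conj_mem u hu g) (inv_mem hu))
    have hkn : ∀ k : ℤ, hEl.vec ((⟨π (g ^ p), mem_map_of_mem π hgp⟩ : Ub) ^ k) = (k : ZMod p) • t := by
      intro k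
      induction k using Int.induction_on with
      | zero => simp [hEl.vec_one]
      | succ k ih => rw [zpow_add_one, hEl.vec_mul, ih, Int.cast_add, Int.cast_one, add_smul, one_smul]
      | pred k ih => rw [zpow_sub_one, hEl.vec_mul, ih, hEl.vec_inv, ← ht, Int.cast_sub, Int.cast_one,
          sub_smul, one_smul, sub_eq_add_neg]
    refine ⟨(k : ZMod p), ?_⟩
    rw [hval u hu, ← hkn k]
    exact congrArg hEl.vec (Subtype.ext (by
      show π _ = _
      rw [← hi, hk, map_zpow]; rfl))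
  have hXne : X ≠ 0 := fun e => hgU (hker (MonoidHom.mem_ker.2 (sub_eq_zero.1 e)))
  obtain ⟨v₀, hv₀⟩ : ∃ v, X v ≠ 0 := by
    by_contra hc
    push Not at hc
    exact hXne (LinearMap.ext hc)
  -- the quotient by `U`
  let σ : Representation (ZMod p) (H ⧸ U) hEl.Space := QuotientGroup.lift U τ hUker
  have hσ : ∀ h : H, σ (h : H ⧸ U) = τ h := fun h => QuotientGroup.lift_mk' _ _ h
  have hσinj : Function.Injective σ := by
    intro a b hab
    obtain ⟨a, rfl⟩ := QuotientGroup.mk_surjective a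
    obtain ⟨b, rfl⟩ := QuotientGroup.mk_surjective b
    rw [hσ, hσ] at hab
    exact QuotientGroup.eq.2 (hker (MonoidHom.mem_ker.2 (by
      rw [map_mul, ← hab, ← map_mul, inv_mul_cancel, map_one])))
  have hLs : Cfsg.IsPSolvable p (H ⧸ U) := by
    obtain ⟨j, hj⟩ := exists_pSeriesLE_of_isPSolvable hs
    exact (hj.quotient U).isPSolvable
  have hLO : Cfsg.pCore p (H ⧸ U) = ⊥ := CfsgLib.Solvable.pCore_quotient_eq_bot (G := H) p
  set R := Cfsg.pPrimeCore p (H ⧸ U) with hR
  have hRn := CfsgLib.Solvable.pPrimeCore_normal p (H ⧸ U)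
  -- so `g` moves `R`
  have hmov : ∃ r ∈ R, (g : H ⧸ U) * r ≠ r * g := by
    by_contra hc
    push Not at hc
    have hmem := CfsgLib.BlockB.centralizer_pPrimeCore_le_of_isPSolvable hLs hLO
      (mem_centralizer_iff.2 fun r hr => (hc r hr).symm)
    refine hgU ((QuotientGroup.eq_one_iff g).1 (orderOf_eq_one_iff.1 (Nat.eq_one_of_dvd_coprimes
      (CfsgLib.Solvable.pPrimeCore_coprime p).symm ?_ (Subgroup.orderOf_dvd_natCard _ hmem))))
    exact orderOf_dvd_of_pow_eq_one (by rw [← QuotientGroup.mk_pow]; exact (QuotientGroup.eq_one_iff _).2 hgp)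
  by_cases hp2 : p = 2
  · -- a transvection gives a section `S₄`
    refine hh.resolve_left (not_not.2 hp2) (Complement.involves_of_quotient (N := Φ₀) ?_)
    obtain ⟨r, hr, hne⟩ := hmov
    set a : H ⧸ U := (g : H ⧸ U) with ha
    set b : H ⧸ U := r * a * r⁻¹ with hb
    have ha2 : a * a = 1 := by
      rw [ha, ← QuotientGroup.mk_mul, QuotientGroup.eq_one_iff, ← pow_two, ← hp2]; exact hgp
    have hainv : a⁻¹ = a := inv_eq_of_mul_eq_one_left ha2
    have hrank : ∀ c : H ⧸ U, finrank (ZMod p) (LinearMap.range (σ (c * a * c⁻¹) - 1)) ≤ 1 := by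
      intro c
      refine le_trans (Submodule.finrank_mono (t := (ZMod p) ∙ σ c t) ?_) ?_
      · rintro _ ⟨v, rfl⟩
        obtain ⟨d, hd⟩ := hrange (σ c⁻¹ v)
        refine Submodule.mem_span_singleton.2 ⟨d, ?_⟩
        rw [← map_smul, ← hd, hX, LinearMap.sub_apply, LinearMap.sub_apply, Module.End.one_apply,
          Module.End.one_apply, map_sub, HallHigman.rep_self_apply_inv, map_mul, map_mul, ha, hσ]
        rfl
      · exact (finrank_span_le_card ({σ c t} : Set hEl.Space)).trans (by simp)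
    set k := a * b with hk
    have hkR : k ∈ R := by
      rw [hk, hb, show a * (r * a * r⁻¹) = a * r * a⁻¹ * r⁻¹ by rw [hainv]; group]
      exact mul_mem (hRn.conj_mem r hr a) (inv_mem hr)
    have hk1 : k ≠ 1 := fun e => hne (by
      rw [hk, hb, show a * (r * a * r⁻¹) = a * r * a⁻¹ * r⁻¹ by rw [hainv]; group, mul_inv_eq_one,
        mul_inv_eq_iff_eq_mul] at e
      exact e)
    have hodd : Odd (orderOf k) := by
      have h1 := (CfsgLib.Solvable.pPrimeCore_coprime (G := H ⧸ U) p).coprime_dvd_left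
        (Subgroup.orderOf_dvd_natCard _ hkR)
      rw [hp2] at h1
      exact Nat.coprime_two_right.1 h1
    have hk3 : k ^ 3 = 1 := pow_three_eq_one_of_transvections hp2 σ hσinj
      (by have := hrank 1; rwa [show (1 : H ⧸ U) * a * (1 : H ⧸ U)⁻¹ = a by group] at this) (hrank r) hodd
    obtain ⟨kk, hkk⟩ := QuotientGroup.mk_surjective k
    have hC : ∀ c : H, (c : H ⧸ U) = 1 → π c ∈ centralizer (Ub : Set (H ⧸ Φ₀)) := fun c hc =>
      mem_centralizer_iff.2 fun v hv => (hEl.conjRep_eq_one.1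
        (hUker ((QuotientGroup.eq_one_iff c).1 hc)) v hv).symm
    refine Complement.involves_symFour (W := Ub) hEl.comm (fun x hx => ?_) (a := π g) (k := π kk) ?_ ?_ ?_ ?_ ?_ ?_
    · rw [← pow_two, ← hp2]; exact hEl.exponent x hx
    · rw [Subgroup.normalizer_eq_top]; trivial
    · rw [Subgroup.normalizer_eq_top]; trivial
    · rw [← map_pow]; exact hC _ (by rw [QuotientGroup.mk_pow, hkk, hk3])
    · intro hc
      refine hk1 (hσinj ?_)
      rw [← hkk, hσ, map_one]
      exact hEl.conjRep_eq_one.2 fun v hv => (mem_centralizer_iff.1 hc v hv).symm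
    · rw [← map_mul]; exact hC _ (by rw [QuotientGroup.mk_mul, ← ha, ha2])
    · rw [← map_inv, ← map_mul, ← map_mul, ← map_mul]
      refine hC _ ?_
      rw [QuotientGroup.mk_mul, QuotientGroup.mk_mul, QuotientGroup.mk_mul, QuotientGroup.mk_inv, hkk, ← ha,
        hk, hb]
      calc a * (a * (r * a * r⁻¹)) * a⁻¹ * (a * (r * a * r⁻¹)) = a * a * (r * (a * a) * r⁻¹) := by group
        _ = 1 := by rw [ha2, mul_one, mul_inv_cancel, mul_one]
  -- odd `p`: move into the normaliser of a complement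
  set T := R.comap (QuotientGroup.mk' U) with hT
  have hTn : T.Normal := inferInstance
  have hidx : (U.relIndex T).Coprime p := by
    rw [hT, relIndex_comap_mk']
    exact CfsgLib.Solvable.pPrimeCore_coprime p
  have hcop : (Nat.card U).Coprime (U.relIndex T) := by
    obtain ⟨n, hn⟩ := IsPGroup.iff_card.1 hUp
    rw [hn]
    exact hidx.symm.pow_left n
  have hUsol : Group.IsSolvable U := by
    have := hUp.isNilpotent
    infer_instance
  obtain ⟨Q, hQT, hUQ, hQsup, hQc, hfr⟩ := exists_complement_sup_normalizer (QuotientGroup.le_comap_mk' _ _)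
    hcop hUsol
  have hmem : g ∈ ((U ⊔ normalizer (Q : Set H) : Subgroup H) : Set H) := by rw [hfr]; trivial
  rw [normal_mul] at hmem
  obtain ⟨v, hv, g', hg', hgeq⟩ := hmem
  replace hg' : g' ∈ normalizer (Q : Set H) := hg'
  have hg'g : g' = v⁻¹ * g := by rw [← hgeq]; simp
  have hτg' : τ g' = τ g := by
    rw [hg'g, map_mul, show τ v⁻¹ = 1 from MonoidHom.mem_ker.1 (hUker (inv_mem hv)), one_mul]
  have hg'p : π (g' ^ p) = π (g ^ p) := by
    rw [hg'g, map_pow, map_mul, hEl.mul_pow_eq (π g) ⟨π v⁻¹, mem_map_of_mem π (inv_mem hv)⟩]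
    have h0 : (∑ i ∈ Finset.range p, hEl.conjRep (π g) ^ i) = 0 := by
      have h1 := sum_pow_eq_sub_one_pow (p := p) (hEl.conjRep (π g)) 1
      rw [pow_one] at h1
      rw [h1, show hEl.conjRep (π g) - 1 = X from rfl,
        show p - 1 = 2 + (p - 3) by have := hp.out.two_le; omega, pow_add, pow_two, hX2, zero_mul]
    rw [h0, LinearMap.zero_apply, show hEl.vec.symm 0 = 1 from rfl, OneMemClass.coe_one, one_mul, map_pow]
  have hg'U : g' ^ p ∈ U := hker (MonoidHom.mem_ker.2 (by
    rw [map_pow, hτg', ← map_pow]; exact MonoidHom.mem_ker.1 (hUker hgp)))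
  have hQfix : ∀ q ∈ Q, τ q t = t := by
    intro q hq
    rw [ht, hτ, MonoidHom.comp_apply, hEl.conjRep_vec]
    refine congrArg hEl.vec (Subtype.ext ?_)
    show π q * π (g ^ p) * (π q)⁻¹ = π (g ^ p)
    rw [← hg'p, ← map_inv, ← map_mul, ← map_mul]
    congr 1
    have h1 : q * g' ^ p * q⁻¹ * (g' ^ p)⁻¹ ∈ U ⊓ Q := by
      refine Subgroup.mem_inf.2 ⟨mul_mem (hUn.conj_mem _ hg'U q) (inv_mem hg'U), ?_⟩
      show q * g' ^ p * q⁻¹ * (g' ^ p)⁻¹ ∈ Q
      rw [mul_assoc, mul_assoc]
      refine mul_mem hq ?_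
      rw [← mul_assoc]
      exact HallHigman.conj_mem_of_mem_normalizer (pow_mem hg' p) (inv_mem hq)
    rw [hUQ, mem_bot, mul_inv_eq_one] at h1
    exact h1
  have hQcop : (Nat.card Q).Coprime p := hQc ▸ hidx
  have hkey : ∀ q ∈ Q, τ g * τ q = τ q * τ g := by
    intro q hq
    set q' := g' * q * g'⁻¹ with hq'
    have hq'Q : q' ∈ Q := HallHigman.conj_mem_of_mem_normalizer hg' hq
    have e1 : τ g * τ q = τ q' * τ g := by
      rw [← hτg', ← map_mul, ← map_mul, hq', inv_mul_cancel_right]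
    have hfixt : ∀ (q : H), q ∈ Q → ∀ c : ZMod p, τ q (c • t) = c • t := fun q hq c => by
      rw [map_smul, hQfix q hq]
    have hstep : ∀ w, ∃ c : ZMod p, τ q w - τ q' w = c • t := by
      intro w
      obtain ⟨c, hc⟩ := hrange w
      obtain ⟨d, hd⟩ := hrange (τ q w)
      have h2 : τ g (τ q w) = τ q' (τ g w) := LinearMap.congr_fun e1 w
      have hgw : ∀ w, τ g w = w + X w := fun w => by
        rw [hX, LinearMap.sub_apply, Module.End.one_apply, add_sub_cancel]
      rw [hgw, hgw, hd, map_add, hc, hfixt q' hq'Q] at h2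
      refine ⟨c - d, ?_⟩
      rw [sub_smul, eq_sub_iff_add_eq, sub_add_eq_add_sub, h2, add_sub_cancel_left]
    set e := q'⁻¹ * q with he
    have heQ : e ∈ Q := mul_mem (inv_mem hq'Q) hq
    have he1 : τ e = 1 := by
      refine HallHigman.eq_one_of_unipotent (m := orderOf e) (W := (ZMod p) ∙ t)
        (by rw [← map_pow, pow_orderOf_eq_one, map_one]) ?_ ?_ fun w => ?_
      · rw [Ne, ZMod.natCast_eq_zero_iff]
        exact fun hd => hp.out.coprime_iff_not_dvd.1
          (hQcop.coprime_dvd_left (Subgroup.orderOf_dvd_natCard _ heQ)).symm hd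
      · intro w hw
        obtain ⟨c, rfl⟩ := Submodule.mem_span_singleton.1 hw
        exact hfixt e heQ c
      · obtain ⟨c, hc⟩ := hstep w
        refine Submodule.mem_span_singleton.2 ⟨c, ?_⟩
        conv_rhs => rw [he, map_mul, Module.End.mul_apply, ← HallHigman.rep_inv_apply_self τ q' w,
          ← map_sub, HallHigman.rep_inv_apply_self, hc]
        rw [hfixt _ (inv_mem hq'Q)]
    rw [e1]
    congr 1
    calc τ q' = τ q' * τ e := by rw [he1, mul_one]
      _ = τ q := by rw [← map_mul, he, mul_inv_cancel_left]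
  obtain ⟨r, hr, hne⟩ := hmov
  obtain ⟨r₀, rfl⟩ := QuotientGroup.mk_surjective r
  have hmem2 : r₀ ∈ ((U ⊔ Q : Subgroup H) : Set H) := by rw [hQsup]; exact hr
  rw [normal_mul] at hmem2
  obtain ⟨u, hu, q, hq, rfl⟩ := hmem2
  refine hne (hσinj ?_)
  rw [map_mul, map_mul, hσ, hσ, map_mul, show τ u = 1 from MonoidHom.mem_ker.1 (hUker hu), one_mul]
  exact hkey q hq

/-- A cyclic normal subgroup of a Sylow `p`-subgroup lies in `O_{p',p}`. -/
theorem cyclic_normal_le_pPrimePCore (hs : Cfsg.IsPSolvable p H) (P : Sylow p H) (A : Subgroup H)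
    (hAP : A ≤ (P : Subgroup H)) (hAn : (P : Subgroup H) ≤ normalizer (A : Set H)) (hA : IsCyclic A)
    (h : p ≠ 2 ∨ ¬ Cfsg.Involves (Equiv.Perm (Fin 4)) H) : A ≤ Cfsg.pPrimePCore p H := by
  have hn := CfsgLib.Solvable.pPrimeCore_normal p H
  set f := QuotientGroup.mk' (Cfsg.pPrimeCore p H)
  obtain ⟨g, rfl⟩ := Subgroup.isCyclic_iff_exists_zpowers_eq_top A |>.1 hA
  refine Subgroup.zpowers_le.2 ?_
  show f g ∈ Cfsg.pCore p _
  obtain ⟨j, hj⟩ := exists_pSeriesLE_of_isPSolvable hs
  refine mem_pCore_of_cyclic_normal (hj.quotient _).isPSolvable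
    (CfsgLib.Solvable.pPrimeCore_quotient_eq_bot (G := H) p)
    (Sylow.mapSurjective (QuotientGroup.mk'_surjective _) P)
    (mem_map_of_mem f (hAP (mem_zpowers g))) ?_ (h.imp id fun h h' => h (Complement.involves_of_quotient h'))
  rintro _ ⟨x, hx, rfl⟩
  rw [← MonoidHom.map_zpowers]
  exact le_normalizer_map f (mem_map_of_mem f (hAn hx))

end CfsgLib.PLength
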