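import Cfsg.Agent.Lib.PLength.ExponentTwo
import Cfsg.Agent.Lib.HallHigman.QuadraticChain
import Mathlib.Algebra.Module.ZMod

/-!
# Hall and Higman: `l_p ≤ d_p` for odd `p`
-/

set_option autoImplicit false

namespace CfsgLib.PLength

open Subgroup Module HallHigman
open scoped commutatorElement

universe u v w

variable {p : ℕ} [hp : Fact p.Prime]

theorem derivedIn_eq_map {G : Type w} [Group G] (P : Subgroup G) (j : ℕ) :
    derivedIn P j = (derivedSeries P j).map P.subtype := by
  induction j with
  | zero => rw [derivedSeries_zero, ← MonoidHom.range_eq_map, range_subtype]; rfl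
  | succ j ih =>
    show ⁅derivedIn P j, derivedIn P j⁆ = _
    rw [ih, derivedSeries_succ, Subgroup.map_commutator]

theorem derivedIn_mono {G : Type w} [Group G] {P Q : Subgroup G} (h : P ≤ Q) (j : ℕ) :
    derivedIn P j ≤ derivedIn Q j := by
  induction j with
  | zero => exact h
  | succ j ih => exact commutator_mono ih ih

/-- In a `p`-solvable linear group with trivial `p`-core, a quadratic element deep in the derived
series of a `p`-subgroup and killing the chain is trivial. -/
theorem eq_one_of_annihilates {F : Type u} [Field F] [CharP F p] {W : Type v} [AddCommGroup W]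
    [Module F W] [FiniteDimensional F W] {M : Type w} [Group M] [Finite M]
    (ρ : Representation F M W) (hinj : Function.Injective ρ) (hs : Cfsg.IsPSolvable p M)
    (hO : Cfsg.pCore p M = ⊥) (hp2 : p ≠ 2) {S : Subgroup M} (hS : IsPGroup p S) {k : ℕ} (hk : 1 ≤ k)
    {a : M} (ha : Annihilates ρ S k a) : a = 1 := by
  classical
  have haS : a ∈ S := derivedIn_le S k ha.1
  have hap : a ^ p = 1 := hinj (by rw [ha.pow_eq_one, map_one])
  set N := Cfsg.pPrimeCore p M with hNdef
  have hNn := CfsgLib.Solvable.pPrimeCore_normal p M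
  have hSN : S ≤ normalizer (N : Set M) := by rw [Subgroup.normalizer_eq_top]; exact le_top
  have hcop : (Nat.card S).Coprime (Nat.card N) := by
    obtain ⟨j, hj⟩ := IsPGroup.iff_card.1 hS
    rw [hj]
    exact (CfsgLib.Solvable.pPrimeCore_coprime p).symm.pow_left j
  have hsol : Group.IsSolvable S := by
    have := hS.isNilpotent
    infer_instance
  have hcent : a ∈ centralizer (N : Set M) := by
    set C := centralizer ({a} : Set M) ⊓ N
    have hCN : C = N := by
      refine Subgroup.eq_of_le_of_card_ge inf_le_right (Nat.le_of_dvd Nat.card_pos ?_)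
      refine (Nat.dvd_iff_prime_pow_dvd_dvd _ _).2 fun q i hq hd => ?_
      rcases Nat.eq_zero_or_pos i with rfl | hi
      · simp
      have hqp : q ≠ p := fun e => hp.out.coprime_iff_not_dvd.1
        (CfsgLib.Solvable.pPrimeCore_coprime p).symm (e ▸ (dvd_pow_self q hi.ne').trans hd)
      have := Fact.mk hq
      obtain ⟨P, hP⟩ := CfsgLib.Coprime.exists_invariant_sylow hSN hcop (Or.inl hsol) q
      set T := (P : Subgroup N).map N.subtype
      have hT : IsPGroup q T := P.2.map _
      refine (P.pow_dvd_card_of_pow_dvd_card hd).trans ?_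
      rw [← Subgroup.card_map_of_injective (K := (P : Subgroup N)) N.subtype_injective]
      refine Subgroup.card_dvd_of_le (le_inf (fun g hg => mem_centralizer_singleton_iff.2 ?_)
        (Subgroup.map_subtype_le _))
      by_cases hq2 : q = 2
      · subst hq2
        have := charP_of_injective_algebraMap (algebraMap F (AlgebraicClosure F)).injective p
        let b := Module.finBasis F W
        let ι := algebraMap F (AlgebraicClosure F)
        let Φ : Module.End F W →+* Module.End (AlgebraicClosure F) (Fin (finrank F W) → AlgebraicClosure F) :=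
          (Matrix.toLinAlgEquiv' (R := AlgebraicClosure F) (n := Fin (finrank F W))).toRingEquiv.toRingHom.comp
            ((ι.mapMatrix).comp (LinearMap.toMatrixAlgEquiv b).toRingEquiv.toRingHom)
        have hΦ : Function.Injective Φ := fun a c hac =>
          (LinearMap.toMatrixAlgEquiv b).injective (Matrix.map_injective ι.injective
            ((Matrix.toLinAlgEquiv' (R := AlgebraicClosure F) (n := Fin (finrank F W))).injective hac))
        let ρ' : Representation (AlgebraicClosure F) M (Fin (finrank F W) → AlgebraicClosure F) :=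
          Φ.toMonoidHom.comp ρ
        have hkill : ∀ (j : ℕ) (X : Module.End F W), (∀ v ∈ chain ρ S j, X v = 0) →
            ∀ v ∈ chain ρ' S j, Φ X v = 0 := by
          intro j
          induction j with
          | zero =>
            intro X hX v _
            rw [show X = 0 from LinearMap.ext fun w => hX w Submodule.mem_top, map_zero, LinearMap.zero_apply]
          | succ j ihj =>
            intro X hX v hv
            refine (iSup₂_le fun g hg => ?_ : chain ρ' S (j + 1) ≤ LinearMap.ker (Φ X)) hv
            rintro _ ⟨x, hx, rfl⟩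
            have h1 := ihj (X * (ρ g - 1)) (fun w hw => hX _ (mem_chain_succ ρ S hg hw)) x hx
            rwa [map_mul, map_sub, map_one, Module.End.mul_apply] at h1
        have ha' : Annihilates ρ' S k a := by
          refine ⟨ha.1, ?_, fun v hv => ?_⟩
          · show (Φ (ρ a) - 1) ^ 2 = 0
            rw [← map_one Φ, ← map_sub, ← map_pow, ha.2.1, map_zero]
          · show (Φ (ρ a) - 1) v = 0
            rw [← map_one Φ, ← map_sub]
            exact hkill k _ ha.2.2 v hv
        exact ((hinj (hΦ (commute_of_annihilates hp2 _ ρ' rfl (T := T) hT hS hP hk ha' g hg)))).symm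
      · by_contra hne
        rcases exceptional_of_pow_eq_zero ρ hp.out hq hqp hT (hP haS) le_rfl
          (by rw [pow_one, hap]) ⟨g, hg, fun e => hne (by simpa using (hinj e).symm)⟩ ha.2.1
          with h | ⟨a', b, ha1, -, hb, hab, -, -⟩
        · rw [pow_one] at h
          have := hp.out.two_le
          omega
        · exact hq2 (eq_two_pow_add_one_of_exceptional hp2 hq ha1 hb hab).1
    exact mem_centralizer_iff.2 fun g hg =>
      mem_centralizer_singleton_iff.1 ((hCN.symm ▸ hg : g ∈ C)).1
  rw [← orderOf_eq_one_iff]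
  exact Nat.eq_one_of_dvd_coprimes hcop (Subgroup.orderOf_dvd_natCard _ haS)
    (Subgroup.orderOf_dvd_natCard _ (CfsgLib.BlockB.centralizer_pPrimeCore_le_of_isPSolvable hs hO hcent))

/-- Hall and Higman: `l_p ≤ d_p` for odd `p`. -/
theorem pSeriesLE_derivedLength (hp2 : p ≠ 2) {G : Type w} [Group G] [Finite G]
    (hs : Cfsg.IsPSolvable p G) {d : ℕ} (hd : ∀ S : Sylow p G, derivedSeries (S : Subgroup G) d = ⊥) :
    PSeriesLE p d G := by
  refine pSeriesLE_of_descent (fun G _ k => ∀ S : Sylow p G, derivedSeries (S : Subgroup G) k = ⊥)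
    ?_ ?_ ?_ _ G le_rfl hs d hd
  · intro G _ _ N _ k h S
    obtain ⟨P, φ, hφ⟩ := exists_sylow_surjective (QuotientGroup.mk'_surjective N) S
    rw [← map_derivedSeries_eq hφ k, h P, Subgroup.map_bot]
  · intro G _ _ h
    refine coprime_card_of_sylow_subsingleton fun S => ?_
    have := h S
    rw [derivedSeries_zero] at this
    exact ⟨fun x y => (mem_bot.1 (this ▸ mem_top x)).trans (mem_bot.1 (this ▸ mem_top y)).symm⟩
  · intro G _ _ V M k hVM hs h S
    obtain ⟨P, hVP, φ, -, hφ⟩ := exists_sylow_injective_of_primitive hVM S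
    have hN := hVM.elemNormal
    have := hVM.normal
    set ρ := hN.conjRep.comp M.subtype with hρ
    have hinj : Function.Injective ρ := (injective_iff_map_eq_one _).2 fun m hm => Subtype.ext (by
      have hmem : (m : G) ∈ V ⊓ M := ⟨hVM.centralizer_le (mem_centralizer_iff.2 fun a ha =>
        (hN.conjRep_eq_one.1 hm a ha).symm), m.2⟩
      rwa [hVM.inf_eq, mem_bot] at hmem)
    set DP := fun j => derivedIn (P : Subgroup G) j
    have hSP : (S : Subgroup M).map M.subtype ≤ (P : Subgroup G) := by
      rintro _ ⟨s, hs, rfl⟩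
      have := (φ ⟨s, hs⟩).2
      rwa [hφ] at this
    have hDS : ∀ j (s : M), s ∈ derivedIn (S : Subgroup M) j → (s : G) ∈ DP j := fun j s hsj =>
      derivedIn_mono hSP j (derivedIn_map M.subtype (S : Subgroup M) j ▸ mem_map_of_mem M.subtype hsj)
    have hDbot : DP (k + 1) = ⊥ := by
      show derivedIn (P : Subgroup G) (k + 1) = ⊥
      rw [derivedIn_eq_map, h P, Subgroup.map_bot]
    have hDcomm : ∀ x ∈ DP k, ∀ y ∈ DP k, x * y = y * x := fun x hx y hy =>
      commutatorElement_eq_one_iff_mul_comm.1 (mem_bot.1 (hDbot ▸ commutator_mem_commutator hx hy))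
    rw [Subgroup.eq_bot_iff_forall]
    intro s hs'
    have hsk : (s : M) ∈ derivedIn (S : Subgroup M) k := by
      rw [derivedIn_eq_map]; exact ⟨s, hs', rfl⟩
    refine Subtype.ext ?_
    rcases Nat.eq_zero_or_pos k with rfl | hk
    · refine hinj ((hN.conjRep_eq_one (g := ((s : M) : G))).2 (fun v hv => ?_) |>.trans (map_one ρ).symm)
      exact hDcomm _ (hDS 0 _ hsk) v (hVP hv)
    refine eq_one_of_annihilates ρ hinj (isPSolvable_subgroup hs M) hVM.pCore_complement hp2 S.2 hk ?_
    -- `[V, a]` lies in `P ^ (k)`
    have hnorm : (P : Subgroup G) ≤ normalizer (DP k : Set G) :=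
      le_normalizer.trans (normalizer_le_normalizer_derivedIn _ k)
    have hDP : ∀ v : V, ((s : M) : G) * v * ((s : M) : G)⁻¹ * (v : G)⁻¹ ∈ DP k := fun v => by
      rw [show ((s : M) : G) * v * ((s : M) : G)⁻¹ * (v : G)⁻¹
        = ((s : M) : G) * ((v : G) * ((s : M) : G)⁻¹ * (v : G)⁻¹) by group]
      exact mul_mem (hDS k _ hsk) (conj_mem_of_mem_normalizer (hnorm (hVP v.2)) (inv_mem (hDS k _ hsk)))
    have hfix : ∀ v : V, (v : G) ∈ DP k → (ρ (s : M) - 1) (hN.vec v) = 0 := fun v hv => by
      show (hN.conjRep ((s : M) : G) - 1) (hN.vec v) = 0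
      rw [hN.conjRep_sub_one_vec, hN.vec_eq_zero]
      refine Subtype.ext ?_
      show ((s : M) : G) * v * ((s : M) : G)⁻¹ * (v : G)⁻¹ = 1
      rw [hDcomm _ (hDS k _ hsk) _ hv, mul_inv_cancel_right, mul_inv_cancel]
    refine ⟨hsk, LinearMap.ext fun v => ?_, fun v hv => ?_⟩
    · obtain ⟨v, rfl⟩ := hN.vec.surjective v
      rw [pow_two, Module.End.mul_apply, LinearMap.zero_apply]
      have e : (ρ (s : M) - 1) (hN.vec v) = hN.vec ⟨_, mul_mem (hVM.normal.conj_mem v v.2 ((s : M) : G)) (inv_mem v.2)⟩ :=
        hN.conjRep_sub_one_vec _ v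
      rw [e]
      exact hfix _ (hDP v)
    · let A : ℕ → AddSubgroup hN.Space := fun j =>
        { carrier := {v | ((hN.vec.symm v : V) : G) ∈ DP j}
          zero_mem' := by
            show ((hN.vec.symm 0 : V) : G) ∈ DP j
            rw [show hN.vec.symm 0 = 1 from rfl]; exact one_mem _
          add_mem' := fun {x y} hx hy => by
            show ((hN.vec.symm (x + y) : V) : G) ∈ DP j
            rw [hN.symm_add, Subgroup.coe_mul]; exact mul_mem hx hy
          neg_mem' := fun {x} hx => by
            obtain ⟨x, rfl⟩ := hN.vec.surjective x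
            show ((hN.vec.symm (-hN.vec x) : V) : G) ∈ DP j
            rw [← hN.vec_inv, Equiv.symm_apply_apply, InvMemClass.coe_inv]
            refine inv_mem ?_
            simpa using hx }
      have hA : ∀ j, chain ρ (S : Subgroup M) j ≤ AddSubgroup.toZModSubmodule p (A j) := by
        intro j
        induction j with
        | zero => exact fun v _ => hVP (hN.vec.symm v).2
        | succ j ihj =>
          refine iSup₂_le fun g hg => ?_
          rintro _ ⟨x, hx, rfl⟩
          obtain ⟨x, rfl⟩ := hN.vec.surjective x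
          have hx' : ((hN.vec.symm (hN.vec x) : V) : G) ∈ DP j := ihj hx
          rw [Equiv.symm_apply_apply] at hx'
          show ((hN.vec.symm ((hN.conjRep (g : G) - 1) (hN.vec x)) : V) : G) ∈ DP (j + 1)
          rw [hN.conjRep_sub_one_vec, Equiv.symm_apply_apply]
          exact commutator_mem_commutator (hDS j g hg) hx'
      obtain ⟨v, rfl⟩ := hN.vec.surjective v
      refine hfix v ?_
      have := hA k hv
      have h2 : ((hN.vec.symm (hN.vec v) : V) : G) ∈ DP k := this
      rwa [Equiv.symm_apply_apply] at h2

end CfsgLib.PLength
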