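import Cfsg.Agent.Lib.PLength.Primitive
import Mathlib.GroupTheory.Nilpotent

/-!
# Bounds on the `p`-length by descent through primitive groups
-/

set_option autoImplicit false

namespace CfsgLib.PLength

open Subgroup

universe u

variable {p : ℕ} [hp : Fact p.Prime]

theorem card_complement_lt {G : Type u} [Group G] [Finite G] {V M : Subgroup G}
    (h : IsPrimitiveConfig p V M) : Nat.card M < Nat.card G := by
  have hne : M ≠ ⊤ := fun e => h.ne_bot (by have := h.inf_eq; rwa [e, inf_top_eq] at this)
  refine lt_of_le_of_ne (Nat.le_of_dvd Nat.card_pos (card_subgroup_dvd_card M)) fun e => hne ?_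
  exact eq_top_of_card_eq M e

/-- If a parameter passes to quotients, forces a `p'`-group at value zero and drops on the top part
of a primitive group, then it bounds the `p`-length. -/
theorem pSeriesLE_of_descent (P : ∀ (G : Type u) [Group G], ℕ → Prop)
    (hquot : ∀ (G : Type u) [Group G] [Finite G] (N : Subgroup G) [N.Normal] (k : ℕ),
      P G k → P (G ⧸ N) k)
    (hzero : ∀ (G : Type u) [Group G] [Finite G], P G 0 → (Nat.card G).Coprime p)
    (hstep : ∀ (G : Type u) [Group G] [Finite G] (V M : Subgroup G) (k : ℕ),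
      IsPrimitiveConfig p V M → Cfsg.IsPSolvable p G → P G (k + 1) → P M k) :
    ∀ (n : ℕ) (G : Type u) [Group G] [Finite G], Nat.card G ≤ n → Cfsg.IsPSolvable p G →
      ∀ k, P G k → PSeriesLE p k G := by
  intro n
  induction n with
  | zero => intro G _ _ h; exact absurd h (Nat.card_pos (α := G)).not_ge
  | succ n ih =>
    intro G _ _ hn hs k hk
    rcases k with - | k
    · exact pSeriesLE_zero.2 (hzero G hk)
    by_contra hG
    have hlt : ∀ N : Subgroup G, ∀ _ : N.Normal, N ≠ ⊥ → PSeriesLE p (k + 1) (G ⧸ N) := by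
      intro N hN hNb
      refine ih _ ?_ ?_ _ (hquot G N _ hk)
      · have h1 : Nat.card (G ⧸ N) * Nat.card N = Nat.card G :=
          (Subgroup.card_eq_card_quotient_mul_card_subgroup N).symm
        have h2 : 1 < Nat.card N := N.one_lt_card_iff_ne_bot.2 hNb
        have h3 : 0 < Nat.card (G ⧸ N) := Nat.card_pos
        nlinarith
      · obtain ⟨j, hj⟩ := exists_pSeriesLE_of_isPSolvable hs
        exact (hj.quotient N).isPSolvable
    obtain ⟨V, M, hVM, hM⟩ := exists_primitiveConfig hs hG hlt
    exact hM (ih _ (by have := card_complement_lt hVM; omega) (isPSolvable_subgroup hs M) k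
      (hstep G V M k hVM hs hk))

section Sylow

variable {G : Type u} [Group G] [Finite G]

theorem exists_sylow_surjective {L : Type*} [Group L] {f : G →* L} (hf : Function.Surjective f)
    (S : Sylow p L) : ∃ P : Sylow p G, ∃ φ : (P : Subgroup G) →* (S : Subgroup L),
      Function.Surjective φ := by
  obtain ⟨P, rfl⟩ := Sylow.mapSurjective_surjective hf p S
  exact ⟨P, f.subgroupMap P, f.subgroupMap_surjective P⟩

theorem exists_sylow_injective {K : Subgroup G} (S : Sylow p K) :
    ∃ P : Sylow p G, ∃ φ : (S : Subgroup K) →* (P : Subgroup G), Function.Injective φ ∧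
      ∀ s, ((φ s : (P : Subgroup G)) : G) = ((s : K) : G) := by
  obtain ⟨P, hP⟩ := (S.2.map K.subtype).exists_le_sylow
  refine ⟨P, (inclusion hP).comp (K.subtype.subgroupMap S), ?_, fun s => rfl⟩
  intro a b h
  exact Subtype.ext (Subtype.ext (congrArg (fun x : (P : Subgroup G) => (x : G)) h))

theorem exists_sylow_injective_of_primitive {V M : Subgroup G} (h : IsPrimitiveConfig p V M)
    (S : Sylow p M) :
    ∃ P : Sylow p G, V ≤ (P : Subgroup G) ∧ ∃ φ : (S : Subgroup M) →* (P : Subgroup G),
      Function.Injective φ ∧ ∀ s, ((φ s : (P : Subgroup G)) : G) = ((s : M) : G) := by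
  obtain ⟨P, φ, hφ, hφ'⟩ := exists_sylow_injective S
  exact ⟨P, h.pCore_eq ▸ CfsgLib.Solvable.pCore_le_sylow P, φ, hφ, hφ'⟩

theorem coprime_card_of_sylow_subsingleton (h : ∀ S : Sylow p G, Subsingleton (S : Subgroup G)) :
    (Nat.card G).Coprime p := by
  obtain ⟨S⟩ : Nonempty (Sylow p G) := inferInstance
  have h1 : Nat.card (S : Subgroup G) = 1 := by
    have := h S
    exact Nat.card_unique
  refine Nat.coprime_comm.1 (hp.out.coprime_iff_not_dvd.2 fun hd => ?_)
  have := S.card_eq_multiplicity
  rw [h1] at this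
  exact (Nat.one_lt_pow (hp.out.factorization_pos_of_dvd Nat.card_pos.ne' hd).ne' hp.out.one_lt).ne this

end Sylow

/-- The `p`-length is at most the nilpotency class of a Sylow `p`-subgroup. -/
theorem pSeriesLE_nilpotencyClass {G : Type u} [Group G] [Finite G] (hs : Cfsg.IsPSolvable p G)
    {c : ℕ} (hc : ∀ S : Sylow p G, Group.nilpotencyClass (S : Subgroup G) ≤ c) :
    PSeriesLE p c G := by
  refine pSeriesLE_of_descent (fun G _ k => ∀ S : Sylow p G, Group.nilpotencyClass (S : Subgroup G) ≤ k)
    ?_ ?_ ?_ _ G le_rfl hs c hc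
  · intro G _ _ N _ k h S
    obtain ⟨P, φ, hφ⟩ := exists_sylow_surjective (QuotientGroup.mk'_surjective N) S
    have := P.2.isNilpotent
    exact (Group.nilpotencyClass_le_of_surjective φ hφ).trans (h P)
  · intro G _ _ h
    refine coprime_card_of_sylow_subsingleton fun S => ?_
    have := S.2.isNilpotent
    exact Group.nilpotencyClass_zero_iff_subsingleton.1 (Nat.le_zero.1 (h S))
  · intro G _ _ V M k hVM _ h S
    obtain ⟨P, hVP, φ, -, hφ'⟩ := exists_sylow_injective_of_primitive hVM S
    have := P.2.isNilpotent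
    have := S.2.isNilpotent
    set ψ := (QuotientGroup.mk' (center (P : Subgroup G))).comp φ
    have hψ : Function.Injective ψ := by
      rw [injective_iff_map_eq_one]
      intro s hs
      have hz : φ s ∈ center (P : Subgroup G) := (QuotientGroup.eq_one_iff _).1 hs
      have hV : ((φ s : (P : Subgroup G)) : G) ∈ V := hVM.centralizer_le (mem_centralizer_iff.2
        fun v hv => congrArg Subtype.val (mem_center_iff.1 hz ⟨v, hVP hv⟩))
      rw [hφ'] at hV
      have h1 : ((s : M) : G) ∈ V ⊓ M := ⟨hV, (s : M).2⟩
      rw [hVM.inf_eq, mem_bot] at h1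
      exact Subtype.ext (Subtype.ext h1)
    calc Group.nilpotencyClass (S : Subgroup M) ≤ Group.nilpotencyClass ψ.range :=
          Group.nilpotencyClass_le_of_surjective (MonoidHom.ofInjective hψ).symm.toMonoidHom
            (MonoidHom.ofInjective hψ).symm.surjective
      _ ≤ Group.nilpotencyClass ((P : Subgroup G) ⧸ center (P : Subgroup G)) :=
          Subgroup.nilpotencyClass_le _
      _ = Group.nilpotencyClass (P : Subgroup G) - 1 := Group.nilpotencyClass_quotient_center
      _ ≤ k := by have := h P; omega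

end CfsgLib.PLength
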