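import Cfsg.Agent.Lib.PLength.ConjRep
import Cfsg.Agent.Lib.PLength.Descent
import Cfsg.Agent.Lib.HallHigman.Linear

/-!
# The exponent of a Sylow `p`-subgroup bounds the `p`-length
-/

set_option autoImplicit false

namespace CfsgLib.PLength

open Subgroup

universe u

variable {G : Type u} [Group G] {p : ℕ} {V : Subgroup G}

/-- If every `a * g` is killed by `p ^ n` then `(g - 1) ^ (p ^ n - 1)` vanishes on the module. -/
theorem ElemNormal.sub_one_pow_eq_zero [Fact p.Prime] (h : ElemNormal p V) {g : G} {n : ℕ}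
    (hexp : ∀ a ∈ V, (a * g) ^ p ^ n = 1) : (h.conjRep g - 1) ^ (p ^ n - 1) = 0 := by
  rw [← sum_pow_eq_sub_one_pow]
  have hg : g ^ p ^ n = 1 := by simpa using hexp 1 (one_mem V)
  refine LinearMap.ext fun v => ?_
  obtain ⟨a, rfl⟩ := h.vec.surjective v
  have h1 := hexp a a.2
  rw [h.mul_pow_eq, hg, mul_one, OneMemClass.coe_eq_one] at h1
  rw [LinearMap.zero_apply, ← h.vec.apply_symm_apply ((∑ i ∈ _, h.conjRep g ^ i) (h.vec a)), h1,
    h.vec_one]

variable [Finite G] [hp : Fact p.Prime]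

omit [Finite G] in
theorem mul_pow_eq_one_of_sylow (hV : IsPGroup p V) [V.Normal] {n : ℕ}
    (hexp : ∀ S : Sylow p G, ∀ x ∈ (S : Subgroup G), x ^ p ^ n = 1) {x : G} {j : ℕ}
    (hx : x ^ p ^ j = 1) {a : G} (ha : a ∈ V) : (a * x) ^ p ^ n = 1 := by
  have hz : IsPGroup p (zpowers x) := by
    obtain ⟨i, -, hi⟩ := (Nat.dvd_prime_pow hp.out).1 (orderOf_dvd_of_pow_eq_one hx)
    exact IsPGroup.of_card ((Nat.card_zpowers x).trans hi)
  obtain ⟨S, hS⟩ := (hV.to_sup_of_normal_left hz).exists_le_sylow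
  exact hexp S _ (hS (mul_mem (mem_sup_left ha) (mem_sup_right (mem_zpowers x))))

/-- An element of a primitive complement whose order is the exponent of a Sylow `p`-subgroup is
exceptional. -/
theorem exceptional_of_primitive {M : Subgroup G} (h : IsPrimitiveConfig p V M)
    (hs : Cfsg.IsPSolvable p G) {n : ℕ} (hn : 1 ≤ n)
    (hexp : ∀ S : Sylow p G, ∀ x ∈ (S : Subgroup G), x ^ p ^ n = 1) {x : M}
    (hord : orderOf x = p ^ n) :
    ∃ (q a b : ℕ) (Q : Subgroup M), q.Prime ∧ q ≠ p ∧ 1 ≤ a ∧ 1 ≤ b ∧ p ^ a = q ^ b + 1 ∧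
      IsPGroup q Q ∧ ∃ g ∈ Q, ∃ g' ∈ Q, g * g' ≠ g' * g := by
  have hN := h.elemNormal
  have := h.normal
  have hxP : (x : G) ^ p ^ n = 1 := by
    rw [← SubgroupClass.coe_pow, ← hord, pow_orderOf_eq_one, OneMemClass.coe_one]
  set ρ := hN.conjRep.comp M.subtype
  have hinj : Function.Injective ρ := (injective_iff_map_eq_one _).2 fun m hm => Subtype.ext (by
    have hmem : (m : G) ∈ V ⊓ M := ⟨h.centralizer_le (mem_centralizer_iff.2 fun a ha =>
      (hN.conjRep_eq_one.1 hm a ha).symm), m.2⟩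
    rwa [h.inf_eq, mem_bot] at hmem)
  obtain ⟨q, Q, hq, hqp, hQ, -, hdeg | ⟨a, b, ha, -, hb, hab, -, hne⟩⟩ :=
    HallHigman.exceptional_of_isPSolvable ρ hinj (isPSolvable_subgroup hs M) h.pCore_complement
      hn hord (k := p ^ n - 1)
      (hN.sub_one_pow_eq_zero fun a ha => mul_pow_eq_one_of_sylow h.isPGroup hexp hxP ha)
  · have := Nat.one_le_pow n p hp.out.pos
    omega
  · exact ⟨q, a, b, Q, hq, hqp, ha, hb, hab, hQ, hne⟩

omit [Finite G] in
/-- An exceptional odd prime is `2 ^ k + 1`. -/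
theorem eq_two_pow_add_one_of_exceptional {q a b : ℕ} (hp2 : p ≠ 2) (hq : q.Prime) (ha : 1 ≤ a)
    (hb : 1 ≤ b) (h : p ^ a = q ^ b + 1) : q = 2 ∧ ∃ k, p = 2 ^ k + 1 := by
  obtain rfl := (HallHigman.eq_two_of_pow_eq_pow_add_one hp.out hq ha hb h).resolve_left hp2
  refine ⟨rfl, ?_⟩
  have hdvd : p - 1 ∣ 2 ^ b := by
    have h1 := Nat.sub_dvd_pow_sub_pow p 1 a
    rwa [one_pow, h, Nat.add_sub_cancel] at h1
  obtain ⟨k, -, hk⟩ := (Nat.dvd_prime_pow Nat.prime_two).1 hdvd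
  exact ⟨k, by have := hp.out.one_lt; omega⟩

/-- Hall and Higman: the `p`-length is at most `e` when a Sylow `p`-subgroup has exponent dividing
`p ^ e` and Sylow subgroups for the exceptional primes are abelian. -/
theorem pSeriesLE_of_exponent {G : Type u} [Group G] [Finite G] (hs : Cfsg.IsPSolvable p G) {e : ℕ}
    (hexp : ∀ S : Sylow p G, ∀ x ∈ (S : Subgroup G), x ^ p ^ e = 1)
    (hab : ∀ q : ℕ, q.Prime → q ≠ p → (∃ a b : ℕ, 1 ≤ a ∧ 1 ≤ b ∧ p ^ a = q ^ b + 1) →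
      ∀ S : Sylow q G, IsMulCommutative (S : Subgroup G)) : PSeriesLE p e G := by
  refine pSeriesLE_of_descent (fun G _ k => (∀ S : Sylow p G, ∀ x ∈ (S : Subgroup G), x ^ p ^ k = 1) ∧
    ∀ q : ℕ, q.Prime → q ≠ p → (∃ a b : ℕ, 1 ≤ a ∧ 1 ≤ b ∧ p ^ a = q ^ b + 1) →
      ∀ S : Sylow q G, IsMulCommutative (S : Subgroup G)) ?_ ?_ ?_ _ G le_rfl hs e ⟨hexp, hab⟩
  · intro G _ _ N _ k h
    refine ⟨fun S x hx => ?_, fun q hq hqp he S => ?_⟩
    · obtain ⟨P, φ, hφ⟩ := exists_sylow_surjective (QuotientGroup.mk'_surjective N) S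
      obtain ⟨y, hy⟩ := hφ ⟨x, hx⟩
      have h1 := congrArg φ (show y ^ p ^ k = 1 from Subtype.ext (h.1 P _ y.2))
      rw [map_pow, hy, map_one] at h1
      exact congrArg Subtype.val h1
    · have := Fact.mk hq
      obtain ⟨P, φ, hφ⟩ := exists_sylow_surjective (QuotientGroup.mk'_surjective N) S
      refine ⟨⟨fun a b => ?_⟩⟩
      obtain ⟨a, rfl⟩ := hφ a
      obtain ⟨b, rfl⟩ := hφ b
      rw [← map_mul, ← map_mul, (h.2 q hq hqp he P).is_comm.comm a b]
  · intro G _ _ h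
    refine coprime_card_of_sylow_subsingleton fun S => ?_
    refine ⟨fun a b => ?_⟩
    have h1 := h.1 S _ a.2
    have h2 := h.1 S _ b.2
    rw [pow_zero, pow_one] at h1 h2
    exact Subtype.ext (h1.trans h2.symm)
  · intro G _ _ V M k hVM hs h
    refine ⟨fun S x hx => ?_, fun q hq hqp he S => ?_⟩
    · obtain ⟨P, hP, φ, -, hφ⟩ := exists_sylow_injective_of_primitive hVM S
      have hx1 : x ^ p ^ (k + 1) = 1 := by
        refine Subtype.ext ?_
        rw [SubgroupClass.coe_pow, OneMemClass.coe_one, ← hφ ⟨x, hx⟩]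
        exact h.1 P _ (φ ⟨x, hx⟩).2
      by_contra hne
      obtain ⟨j, hj, hord⟩ := (Nat.dvd_prime_pow hp.out).1 (orderOf_dvd_of_pow_eq_one hx1)
      have hjk : j = k + 1 := by
        by_contra hjk
        exact hne (orderOf_dvd_iff_pow_eq_one.1 (hord ▸ pow_dvd_pow p (by omega)))
      obtain ⟨q, a, b, Q, hq, hqp, ha, hb, hab, hQ, g, hg, g', hg', hgg⟩ :=
        exceptional_of_primitive hVM hs (by omega) h.1 (hjk ▸ hord)
      have := Fact.mk hq
      obtain ⟨T, hT⟩ := hQ.exists_le_sylow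
      obtain ⟨P, φ, hφ, -⟩ := exists_sylow_injective T
      have h1 : (⟨g, hT hg⟩ : (T : Subgroup M)) * ⟨g', hT hg'⟩ = ⟨g', hT hg'⟩ * ⟨g, hT hg⟩ := hφ (by
        rw [map_mul, map_mul, (h.2 q hq hqp ⟨a, b, ha, hb, hab⟩ P).is_comm.comm])
      exact hgg (congrArg Subtype.val h1)
    · have := Fact.mk hq
      obtain ⟨P, φ, hφ, -⟩ := exists_sylow_injective S
      exact ⟨⟨fun a b => hφ (by
        rw [map_mul, map_mul, (h.2 q hq hqp he P).is_comm.comm])⟩⟩

end CfsgLib.PLength
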