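import Cfsg.Agent.Lib.PLength.Constrained
import Cfsg.Agent.Lib.Solvable.HallHigman
import Cfsg.Agent.Lib.Transfer.PPrimeAut

/-!
# Centralisers of the elements of order `p`; groups with all subgroups of order `p` alike
-/

set_option autoImplicit false

namespace CfsgLib.PLength

open Subgroup

universe u

variable {G : Type u} [Group G] [Finite G] {p : ℕ} [hp : Fact p.Prime]

/-- For odd `p` a `p'`-element fixing every element of order `p` of a normal `p`-subgroup
centralises it. -/
theorem commute_of_fixes_order_p (hp2 : p ≠ 2) {R : Subgroup G} [R.Normal] (hR : IsPGroup p R)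
    {q : G} (hq : (orderOf q).Coprime p) (h : ∀ x ∈ R, x ^ p = 1 → q * x = x * q) {x : G}
    (hx : x ∈ R) : q * x = x * q := by
  let ψ : G →* MulAut R := MulAut.conjNormal
  have h1 : ψ q = 1 := by
    refine CfsgLib.Transfer.eq_one_of_fixes_omega_one hp2 hR (ψ q)
      (hq.coprime_dvd_left (orderOf_map_dvd ψ q)) fun r hr => Subtype.ext ?_
    show q * (r : G) * q⁻¹ = r
    rw [h r r.2 (by rw [← Subgroup.coe_pow, hr, coe_one]), mul_inv_cancel_right]
  have h2 : q * x * q⁻¹ = x := by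
    have := congrArg (fun e : MulAut R => ((e ⟨x, hx⟩ : R) : G)) h1
    exact this
  exact mul_inv_eq_iff_eq_mul.1 h2

/-- If the Fitting subgroup of a solvable group has odd order, an element centralising all its
elements of prime order lies in it. -/
theorem mem_fittingSubgroup_of_centralizes [Group.IsSolvable G]
    (hodd : Odd (Nat.card (Cfsg.fittingSubgroup G))) {g : G}
    (hg : ∀ x ∈ Cfsg.fittingSubgroup G, (orderOf x).Prime → g * x = x * g) :
    g ∈ Cfsg.fittingSubgroup G := by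
  have hFn := CfsgLib.Solvable.fittingSubgroup_normal G
  set F := Cfsg.fittingSubgroup G with hF
  have hFnil : Group.IsNilpotent F := CfsgLib.Solvable.fittingSubgroup_isNilpotent
  set S : Set G := {x | x ∈ F ∧ (orderOf x).Prime} with hS
  have hSn : (centralizer S).Normal := by
    refine ⟨fun k hk c => mem_centralizer_iff.2 fun x hx => ?_⟩
    have h1 : c⁻¹ * x * c ∈ S := ⟨by simpa using hFn.conj_mem x hx.1 c⁻¹, by
      rw [show c⁻¹ * x * c = MulAut.conj c⁻¹ x by simp, MulEquiv.orderOf_eq]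
      exact hx.2⟩
    have h2 := mem_centralizer_iff.1 hk _ h1
    calc x * (c * k * c⁻¹) = c * ((c⁻¹ * x * c) * k) * c⁻¹ := by group
      _ = c * (k * (c⁻¹ * x * c)) * c⁻¹ := by rw [h2]
      _ = c * k * c⁻¹ * x := by group
  have hgK : g ∈ centralizer S := mem_centralizer_iff.2 fun x hx => (hg x hx.1 hx.2).symm
  set K := centralizer S with hK
  suffices h : K ≤ F from h hgK
  by_contra hKF
  -- a normal subgroup `M` of `K` with `M / (K ∩ F)` a nontrivial `q`-group
  have hDn : (K ⊓ F).Normal := inferInstance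
  set π := QuotientGroup.mk' (K ⊓ F) with hπ
  have hKb : K.map π ≠ ⊥ := fun e => hKF fun x hx =>
    ((QuotientGroup.eq_one_iff x).1 (mem_bot.1 (e ▸ mem_map_of_mem π hx : π x ∈ (⊥ : Subgroup _)))).2
  obtain ⟨N, hNn, hNb, hNle, hNmin⟩ := CfsgLib.Solvable.exists_minimal_normal_le
    (hSn.map π (QuotientGroup.mk'_surjective _)) hKb
  obtain ⟨q, hq, hqN, -, -⟩ := CfsgLib.Solvable.exists_isPGroup_of_minimal_normal hNb hNmin
  have := Fact.mk hq
  set M := N.comap π with hM
  have hMn : M.Normal := inferInstance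
  have hMK : M ≤ K := fun x hx => by
    obtain ⟨k, hk, e⟩ := hNle hx
    have h1 : k⁻¹ * x ∈ K ⊓ F := QuotientGroup.eq.1 e
    simpa using mul_mem hk h1.1
  -- Sylow subgroups for other primes lie in `F`
  have hprime : ∀ x ∈ M, ∀ r : ℕ, r.Prime → r ≠ q → (∃ k, orderOf x = r ^ k) → x ∈ F := by
    rintro x hx r hr hrq ⟨k, hk⟩
    have hx' : π x ∈ N := hx
    obtain ⟨j, hj⟩ := IsPGroup.iff_orderOf.1 hqN ⟨π x, hx'⟩
    rw [Subgroup.orderOf_mk] at hj
    have h1 : orderOf (π x) ∣ r ^ k := hk ▸ orderOf_map_dvd π x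
    have h2 : orderOf (π x) = 1 := Nat.eq_one_of_dvd_coprimes
      (((Nat.coprime_primes hr hq).2 hrq).pow k j) h1 (hj ▸ dvd_rfl)
    exact ((QuotientGroup.eq_one_iff x).1 (orderOf_eq_one_iff.1 h2)).2
  have hcore : ∀ r : ℕ, Fact r.Prime → ∀ x, x ∈ F → (∃ k, orderOf x = r ^ k) →
      x ∈ (Cfsg.pCore r F).map F.subtype := by
    rintro r hr x hxF ⟨k, hk⟩
    refine ⟨⟨x, hxF⟩, ?_, rfl⟩
    have hz : IsPGroup r (zpowers (⟨x, hxF⟩ : F)) := IsPGroup.of_card (n := k)
      (by rw [Nat.card_zpowers, Subgroup.orderOf_mk, hk])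
    obtain ⟨P, hP⟩ := hz.exists_le_sylow
    have h03 : Group.IsNilpotent F ↔
        ∀ (p : ℕ) (_ : Fact p.Prime) (P : Sylow p F), (P : Subgroup F).Normal :=
      (Group.isNilpotent_of_finite_tfae (G := F)).out 0 3
    exact (CfsgLib.Solvable.le_pCore (h03.1 hFnil r hr P) P.2)
      (hP (mem_zpowers _))
  -- and they commute with the `q`-elements of `M`
  have hcomm : ∀ x ∈ M, ∀ y ∈ M, ∀ r : ℕ, r.Prime → r ≠ q → (∃ k, orderOf x = r ^ k) →
      (∃ k, orderOf y = q ^ k) → y * x = x * y := by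
    rintro x hx y hy r hr hrq hxk ⟨j, hj⟩
    have := Fact.mk hr
    have hxF := hprime x hx r hr hrq hxk
    have hRn : ((Cfsg.pCore r F).map F.subtype).Normal := by
      have := CfsgLib.Solvable.pCore_characteristic r F
      infer_instance
    have hRp : IsPGroup r ((Cfsg.pCore r F).map F.subtype) :=
      (CfsgLib.Solvable.pCore_isPGroup r).map _
    have hxR := hcore r ⟨hr⟩ x hxF hxk
    rcases eq_or_ne x 1 with rfl | hx1
    · simp
    have hr2 : r ≠ 2 := by
      rintro rfl
      obtain ⟨k, hk⟩ := hxk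
      rcases k with - | k
      · exact hx1 (orderOf_eq_one_iff.1 (by rw [hk, pow_zero]))
      · have hd := Subgroup.orderOf_dvd_natCard F hxF
        rw [hk] at hd
        exact Nat.not_even_iff_odd.2 hodd (even_iff_two_dvd.2 ((dvd_pow_self 2 (by omega)).trans hd))
    refine commute_of_fixes_order_p hr2 hRp (hj ▸ ((Nat.coprime_primes hq hr).2 (Ne.symm hrq)).pow_left j)
      (fun z hz hzp => ?_) hxR
    rcases eq_or_ne z 1 with rfl | hz1
    · simp
    have hzF : z ∈ F := map_subtype_le _ hz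
    exact (mem_centralizer_iff.1 (hMK hy) z ⟨hzF, by rw [orderOf_eq_prime hzp hz1]; exact hr⟩).symm
  -- so `M` is nilpotent
  have hnil : Group.IsNilpotent M := by
    refine ((Group.isNilpotent_of_finite_tfae (G := M)).out 0 3).2 fun r hr P => ?_
    have := hr
    by_cases hrq : r = q
    · subst hrq
      rw [← normalizer_eq_top_iff, eq_top_iff]
      intro x _
      have hgen : ∀ (s : ℕ) (y : M), s.Prime → (∃ k, orderOf y = s ^ k) →
          y ∈ normalizer ((P : Subgroup M) : Set M) ∨ s = r := by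
        intro s y hs hy
        by_cases hsr : s = r
        · exact Or.inr hsr
        refine Or.inl (centralizer_le_normalizer _ (mem_centralizer_iff.2 fun z hz => Subtype.ext ?_))
        obtain ⟨j, hj⟩ := IsPGroup.iff_orderOf.1 P.2 ⟨z, hz⟩
        rw [orderOf_mk] at hj
        exact hcomm y y.2 z z.2 s hs hsr (by simpa [orderOf_coe] using hy) ⟨j, by rw [orderOf_coe]; exact hj⟩
      -- Sylow subgroups generate
      suffices htop : normalizer ((P : Subgroup M) : Set M) = ⊤ by rw [htop]; trivial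
      refine eq_top_of_card_eq _ (Nat.dvd_antisymm (card_subgroup_dvd_card _) ?_)
      refine (Nat.dvd_iff_prime_pow_dvd_dvd _ _).2 fun s k hs hd => ?_
      have := Fact.mk hs
      obtain ⟨Q⟩ : Nonempty (Sylow s M) := inferInstance
      rcases eq_or_ne s r with rfl | hsr
      · exact (P.pow_dvd_card_of_pow_dvd_card hd).trans (card_dvd_of_le le_normalizer)
      · refine (Q.pow_dvd_card_of_pow_dvd_card hd).trans (card_dvd_of_le fun y hy => ?_)
        obtain ⟨j, hj⟩ := IsPGroup.iff_orderOf.1 Q.2 ⟨y, hy⟩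
        rw [orderOf_mk] at hj
        exact (hgen s y hs ⟨j, hj⟩).resolve_right hsr
    · have hle : (P : Subgroup M) ≤ ((Cfsg.pCore r F).map F.subtype).subgroupOf M := by
        intro y hy
        obtain ⟨j, hj⟩ := IsPGroup.iff_orderOf.1 P.2 ⟨y, hy⟩
        rw [Subgroup.orderOf_mk] at hj
        have hj' : ∃ k, orderOf (y : G) = r ^ k := ⟨j, (orderOf_coe y).trans hj⟩
        exact hcore r hr y (hprime y y.2 r hr.out hrq hj') hj'
      have hn : ((Cfsg.pCore r F).map F.subtype).Normal := by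
        have := CfsgLib.Solvable.pCore_characteristic r F
        infer_instance
      have hp' : IsPGroup r (((Cfsg.pCore r F).map F.subtype).subgroupOf M) :=
        ((CfsgLib.Solvable.pCore_isPGroup r).map _).comap_subtype
      rw [← P.3 hp' hle]
      infer_instance
  have hMF : M ≤ F := CfsgLib.Solvable.le_fittingSubgroup hMn hnil
  refine hNb (le_bot_iff.1 fun n hn => ?_)
  obtain ⟨x, rfl⟩ := QuotientGroup.mk'_surjective _ n
  exact (QuotientGroup.eq_one_iff x).2 ⟨hMK hn, hMF hn⟩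

/-- If the automorphisms permute the subgroups of order `p` transitively and `O_{p'}(G) = 1`, then
the Sylow `p`-subgroup is normal. -/
theorem pSeriesLE_one_of_transitive_of_core (hp2 : p ≠ 2) (hdvd : p ∣ Nat.card G)
    (hs : Cfsg.IsPSolvable p G) (hO : Cfsg.pPrimeCore p G = ⊥)
    (htr : ∀ x y : G, x ^ p = 1 → x ≠ 1 → y ^ p = 1 → y ≠ 1 →
      ∃ a : MulAut G, a y ∈ zpowers x) : PSeriesLE p 1 G := by
  have : Nontrivial G := Finite.one_lt_card_iff_nontrivial.1
    (lt_of_lt_of_le hp.out.one_lt (Nat.le_of_dvd Nat.card_pos hdvd))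
  have hRn := CfsgLib.Solvable.pCore_normal p G
  have hRc := CfsgLib.Solvable.pCore_characteristic p G
  set R := Cfsg.pCore p G with hR
  have hRp : IsPGroup p R := CfsgLib.Solvable.pCore_isPGroup p
  have hRb : R ≠ ⊥ := pCore_ne_bot_of_isPSolvable hs hO
  have hRinv : ∀ a : MulAut G, ∀ x, x ∈ R → a x ∈ R := fun a x hx => by
    have h := characteristic_iff_map_le.1 hRc a
    exact h ⟨x, hx, rfl⟩
  -- every element of order `p` is central in `R`
  have : Nontrivial R := R.nontrivial_iff_ne_bot.2 hRb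
  have hz := hRp.center_nontrivial
  obtain ⟨z, hzp⟩ := exists_prime_orderOf_dvd_card' (G := center R) p (by
    obtain ⟨n, hn, hcard⟩ := (hRp.to_subgroup (center R)).nontrivial_iff_card.1 hz
    exact hcard ▸ dvd_pow_self p (by omega))
  set x₀ : G := ((z : R) : G) with hx₀
  have hx₀p : x₀ ^ p = 1 := by
    rw [hx₀, ← Subgroup.coe_pow, ← Subgroup.coe_pow, ← hzp, pow_orderOf_eq_one]; rfl
  have hx₀1 : x₀ ≠ 1 := fun e => hp.out.ne_one (by
    rw [← hzp, orderOf_eq_one_iff]; exact Subtype.ext (Subtype.ext e))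
  have hcen : ∀ y : G, y ^ p = 1 → y ∈ R ∧ ∀ r ∈ R, y * r = r * y := by
    intro y hy
    rcases eq_or_ne y 1 with rfl | hy1
    · exact ⟨one_mem _, fun r _ => by simp⟩
    obtain ⟨a, ha⟩ := htr x₀ y hx₀p hx₀1 hy hy1
    obtain ⟨i, hi⟩ := ha
    have hy' : y = a.symm (x₀ ^ i) := by rw [show x₀ ^ i = a y from hi]; simp
    refine ⟨hy' ▸ hRinv a.symm _ (zpow_mem (z : R).2 i), fun r hr => ?_⟩
    have h1 : Commute x₀ (a r) :=
      (congrArg Subtype.val (mem_center_iff.1 z.2 ⟨a r, hRinv a r hr⟩)).symm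
    apply a.injective
    rw [map_mul, map_mul, ← show x₀ ^ i = a y from hi]
    exact (h1.zpow_left i).eq
  by_cases hidx : (Nat.card (G ⧸ R)).Coprime p
  · exact (pSeriesLE_zero.2 hidx).of_quotient_pgroup R hRp
  exfalso
  have hTn' := CfsgLib.Solvable.pPrimeCore_normal p (G ⧸ R)
  have hTc' := CfsgLib.Solvable.pPrimeCore_characteristic p (G ⧸ R)
  set T := (Cfsg.pPrimeCore p (G ⧸ R)).comap (QuotientGroup.mk' R) with hT
  have hRT : R ≤ T := QuotientGroup.le_comap_mk' _ _
  have hTn : T.Normal := inferInstance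
  have hTinv : ∀ a : MulAut G, ∀ x, x ∈ T → a x ∈ T := fun a x hx => by
    have h := characteristic_iff_map_le.1 hTc'
      (QuotientGroup.congr R R a (characteristic_iff_map_eq.1 hRc a))
    exact h ⟨_, hx, rfl⟩
  have hTidx : (R.relIndex T).Coprime p := by
    rw [hT, relIndex_comap_mk']
    exact CfsgLib.Solvable.pPrimeCore_coprime p
  have hcop : (Nat.card R).Coprime (R.relIndex T) := by
    obtain ⟨n, hn⟩ := IsPGroup.iff_card.1 hRp
    exact hn ▸ hTidx.symm.pow_left n
  have hsol : Group.IsSolvable R := by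
    have := hRp.isNilpotent
    infer_instance
  obtain ⟨Q, hQT, -, hRQ, hQc, hfr⟩ := exists_complement_sup_normalizer hRT hcop hsol
  -- some element of order `p` is moved by `Q`
  have hmove : ∃ x : G, x ^ p = 1 ∧ ¬ ∀ t ∈ T, t * x = x * t := by
    by_contra hall
    push Not at hall
    have hQR : Q ≤ R := fun q hq => centralizer_pCore_le_of_isPSolvable hs hO (mem_centralizer_iff.2
      fun r hr => (commute_of_fixes_order_p hp2 hRp
        (hTidx.coprime_dvd_left (hQc ▸ Subgroup.orderOf_dvd_natCard Q hq))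
        (fun x _ hx => hall x hx q (hQT hq)) hr).symm)
    have hTR : T ≤ R := hRQ ▸ sup_le le_rfl hQR
    have h0 : Cfsg.pPrimeCore p (G ⧸ R) = ⊥ := by
      rw [← map_comap_eq_self_of_surjective (QuotientGroup.mk'_surjective R) (Cfsg.pPrimeCore p (G ⧸ R)),
        ← le_bot_iff]
      exact (map_mono hTR).trans (QuotientGroup.map_mk'_self R).le
    have : Nontrivial (G ⧸ R) := by
      refine Finite.one_lt_card_iff_nontrivial.1 (lt_of_le_of_ne Nat.card_pos fun e => hidx ?_)
      rw [← e]; exact Nat.coprime_one_left p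
    obtain ⟨k, hk⟩ := exists_pSeriesLE_of_isPSolvable hs
    exact pCore_ne_bot_of_isPSolvable (hk.quotient R).isPSolvable h0
      (CfsgLib.Solvable.pCore_quotient_eq_bot p)
  obtain ⟨x₁, hx₁, hx₁T⟩ := hmove
  have hx₁1 : x₁ ≠ 1 := fun e => hx₁T fun t _ => by simp [e]
  -- hence `Q` fixes no element of order `p`
  have hfix : ∀ y : G, y ^ p = 1 → (∀ q ∈ Q, q * y = y * q) → y = 1 := by
    intro y hy hyQ
    by_contra hy1
    refine hx₁T fun t ht => ?_
    have hyT : T ≤ centralizer ({y} : Set G) := by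
      rw [← hRQ]
      refine sup_le (fun r hr => mem_centralizer_singleton_iff.2 ((hcen y hy).2 r hr).symm)
        fun q hq => mem_centralizer_singleton_iff.2 (hyQ q hq)
    obtain ⟨a, ha⟩ := htr y x₁ hy hy1 hx₁ hx₁1
    obtain ⟨i, hi⟩ := ha
    apply a.injective
    rw [map_mul, map_mul, ← show y ^ i = a x₁ from hi]
    exact (Commute.zpow_right (mem_centralizer_singleton_iff.1 (hyT (hTinv a t ht))) i).eq
  -- an element of order `p` in the normaliser
  have hN : p ∣ Nat.card (normalizer (Q : Set G)) := by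
    by_contra hnd
    refine hidx (((hp.out.coprime_iff_not_dvd.2 hnd).symm).coprime_dvd_left ?_)
    have hsurj : Function.Surjective ((QuotientGroup.mk' R).comp (normalizer (Q : Set G)).subtype) := by
      intro g
      obtain ⟨g, rfl⟩ := QuotientGroup.mk'_surjective R g
      have hg : g ∈ ((R ⊔ normalizer (Q : Set G) : Subgroup G) : Set G) := by rw [hfr]; trivial
      rw [normal_mul] at hg
      obtain ⟨r, hr, n, hn, rfl⟩ := hg
      exact ⟨⟨n, hn⟩, by simp [(QuotientGroup.eq_one_iff r).2 hr]⟩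
    exact Subgroup.card_dvd_of_surjective _ hsurj
  obtain ⟨⟨y, hyN⟩, hy⟩ := exists_prime_orderOf_dvd_card' p hN
  rw [orderOf_mk] at hy
  have hyp : y ^ p = 1 := hy ▸ pow_orderOf_eq_one y
  refine hp.out.ne_one (hy ▸ orderOf_eq_one_iff.2 (hfix y hyp fun q hq => ?_))
  -- `[y, q]` lies in `R ∩ Q`
  have h1 : y * q * y⁻¹ * q⁻¹ ∈ Q :=
    mul_mem ((mem_normalizer_iff.1 hyN q).1 hq) (inv_mem hq)
  have h2 : y * q * y⁻¹ * q⁻¹ ∈ R := by
    have hyR := (hcen y hyp).1
    have : y * (q * y⁻¹ * q⁻¹) ∈ R := mul_mem hyR (hRn.conj_mem _ (inv_mem hyR) q)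
    simpa [mul_assoc] using this
  have h3 : y * q * y⁻¹ * q⁻¹ = 1 := by
    rw [← orderOf_eq_one_iff]
    exact Nat.eq_one_of_dvd_coprimes hcop (Subgroup.orderOf_dvd_natCard R h2)
      (hQc ▸ Subgroup.orderOf_dvd_natCard Q h1)
  exact (mul_inv_eq_iff_eq_mul.1 (mul_inv_eq_one.1 h3)).symm

/-- A `p`-solvable group, `p` odd, whose automorphism group is transitive on the subgroups of
order `p` has `p`-length one. -/
theorem pSeriesLE_one_of_transitive (hp2 : p ≠ 2) (hdvd : p ∣ Nat.card G)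
    (hs : Cfsg.IsPSolvable p G)
    (htr : ∀ U V : Subgroup G, Nat.card U = p → Nat.card V = p →
      ∃ a : MulAut G, U.map a.toMonoidHom = V) : PSeriesLE p 1 G := by
  have hNn := CfsgLib.Solvable.pPrimeCore_normal p G
  have hNc := CfsgLib.Solvable.pPrimeCore_characteristic p G
  set N := Cfsg.pPrimeCore p G with hN
  have hNp : (Nat.card N).Coprime p := CfsgLib.Solvable.pPrimeCore_coprime p
  refine PSeriesLE.of_quotient_pPrime N hNp ?_
  obtain ⟨k, hk⟩ := exists_pSeriesLE_of_isPSolvable hs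
  -- lift elements of order `p`
  have lift : ∀ u : G ⧸ N, u ^ p = 1 → u ≠ 1 → ∃ g : G, orderOf g = p ∧ QuotientGroup.mk' N g = u := by
    intro u hu hu1
    have hz : IsPGroup p (zpowers u) :=
      IsPGroup.of_card (n := 1) (by rw [Nat.card_zpowers, orderOf_eq_prime hu hu1, pow_one])
    obtain ⟨S, hS⟩ := hz.exists_le_sylow
    obtain ⟨P, hP⟩ := Sylow.mapSurjective_surjective (QuotientGroup.mk'_surjective N) p S
    have hu' : u ∈ ((P.mapSurjective (QuotientGroup.mk'_surjective N) : Sylow p (G ⧸ N)) : Subgroup (G ⧸ N)) :=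
      hP ▸ hS (mem_zpowers u)
    rw [Sylow.coe_mapSurjective] at hu'
    obtain ⟨g, hg, rfl⟩ := hu'
    refine ⟨g, orderOf_eq_prime ?_ (fun e => hu1 (by rw [e, map_one])), rfl⟩
    have h1 : g ^ p ∈ N := (QuotientGroup.eq_one_iff _).1 (show QuotientGroup.mk' N (g ^ p) = 1 by
      rw [map_pow]; exact hu)
    obtain ⟨j, hj⟩ := IsPGroup.iff_orderOf.1 P.2 ⟨g ^ p, pow_mem hg p⟩
    rw [orderOf_mk] at hj
    rw [← orderOf_eq_one_iff]
    exact Nat.eq_one_of_dvd_coprimes ((Nat.Coprime.pow_left j hNp.symm)) (hj ▸ dvd_rfl)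
      (Subgroup.orderOf_dvd_natCard N h1)
  refine pSeriesLE_one_of_transitive_of_core hp2 ?_ (hk.quotient N).isPSolvable
    (CfsgLib.Solvable.pPrimeCore_quotient_eq_bot p) fun x y hx hx1 hy hy1 => ?_
  · have h := Subgroup.card_eq_card_quotient_mul_card_subgroup N
    exact (hp.out.dvd_mul.1 (h ▸ hdvd)).resolve_right (hp.out.coprime_iff_not_dvd.1 hNp.symm)
  · obtain ⟨g, hg, rfl⟩ := lift x hx hx1
    obtain ⟨g', hg', rfl⟩ := lift y hy hy1
    obtain ⟨a, ha⟩ := htr (zpowers g') (zpowers g) (by rw [Nat.card_zpowers, hg'])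
      (by rw [Nat.card_zpowers, hg])
    refine ⟨QuotientGroup.congr N N a (characteristic_iff_map_eq.1 hNc a), ?_⟩
    obtain ⟨i, hi⟩ : a g' ∈ zpowers g := ha ▸ ⟨g', mem_zpowers g', rfl⟩
    exact ⟨i, by simp only [← map_zpow]; rw [show g ^ i = a g' from hi]; rfl⟩

end CfsgLib.PLength
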