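import Cfsg.Agent.Lib.PLength.Exponent
import Cfsg.Agent.Lib.Complement.TwoTools
import Mathlib.Logic.Small.Basic

/-!
# A primitive group with an element of degree `p` contains `C_p ≀ C_p`
-/

set_option autoImplicit false

namespace CfsgLib.PLength

open Subgroup Module

universe u v

/-- The wreath product `C_p ≀ C_p`, described abstractly. -/
def IsWreathCp (p : ℕ) (W : Type v) [Group W] : Prop :=
  ∃ (B : Subgroup W) (t : W), B.Normal ∧ IsMulCommutative B ∧ (∀ b ∈ B, b ^ p = 1) ∧
    Nat.card B = p ^ p ∧ orderOf t = p ∧ t ∉ B ∧ Nat.card W = p ^ (p + 1) ∧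
    Nat.card ↥(B ⊓ Subgroup.centralizer ({t} : Set W)) = p

theorem involves_of_surjective {A : Type u} [Group A] {B : Type v} [Group B] {φ : A →* B}
    (hφ : Function.Surjective φ) {W : Type} [Group W] (h : Cfsg.Involves W B) : Cfsg.Involves W A := by
  obtain ⟨K, f, hf⟩ := Complement.involves_iff_exists_hom.1 h
  refine Complement.involves_iff_exists_hom.2 ⟨K.comap φ, f.comp (φ.subgroupComap K), hf.comp fun y => ?_⟩
  obtain ⟨x, hx⟩ := hφ y.1
  exact ⟨⟨x, show φ x ∈ K from hx ▸ y.2⟩, Subtype.ext hx⟩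

variable {G : Type u} [Group G] [Finite G] {p : ℕ} [hp : Fact p.Prime] {V : Subgroup G}

/-- A cyclic free summand of the module gives a section `C_p ≀ C_p`. -/
theorem exists_wreath (h : ElemNormal p V) {x : G} (hx : orderOf x = p) (hxV : x ∉ V) {w : h.Space}
    (hw : ((h.conjRep x - 1) ^ (p - 1)) w ≠ 0) :
    ∃ (S : Sylow p G) (W : Type) (_ : Group W) (_ : Finite W),
      IsWreathCp p W ∧ Cfsg.Involves W (S : Subgroup G) := by
  classical
  have := h.normal
  set Y := h.conjRep x - 1 with hY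
  have hxp : x ^ p = 1 := hx ▸ pow_orderOf_eq_one x
  have hYp : Y ^ p = 0 := by
    have h1 := congrArg (Polynomial.aeval (h.conjRep x))
      (sub_pow_char_pow (p := p) (n := 1) (Polynomial.X : Polynomial (ZMod p)) 1)
    simp only [map_pow, map_sub, Polynomial.aeval_X, map_one, pow_one, one_pow] at h1
    rw [hY, h1, ← map_pow, hxp, map_one, sub_self]
  let L : (Fin p → ZMod p) →ₗ[ZMod p] h.Space :=
    Fintype.linearCombination (ZMod p) fun i : Fin p => (Y ^ (i : ℕ)) w
  have hLapp : ∀ c, L c = ∑ i : Fin p, c i • (Y ^ (i : ℕ)) w := fun c => Fintype.linearCombination_apply _ _ _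
  have hkill : ∀ j, p ≤ j → (Y ^ j) w = 0 := fun j hj => by
    rw [← Nat.add_sub_cancel' hj, pow_add, hYp, zero_mul, LinearMap.zero_apply]
  -- the shifted coefficients vanish one by one
  have hvan : ∀ (s : ℕ) (c : Fin p → ZMod p), (Y ^ s) (L c) = 0 → ∀ i : Fin p, (i : ℕ) + s < p → c i = 0 := by
    intro s c hc
    suffices key : ∀ (i : ℕ) (hi : i < p), i + s < p → c ⟨i, hi⟩ = 0 from fun i => key i i.2
    intro i
    induction i using Nat.strong_induction_on with
    | _ i ih =>
      intro hi his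
      have h1 := congrArg (Y ^ (p - 1 - s - i)) hc
      rw [map_zero, ← Module.End.mul_apply, ← pow_add, hLapp, map_sum,
        Finset.sum_eq_single ⟨i, hi⟩] at h1
      · rw [map_smul, ← Module.End.mul_apply, ← pow_add] at h1
        simp only [show p - 1 - s - i + s + i = p - 1 by omega] at h1
        exact (smul_eq_zero.1 h1).resolve_right hw
      · intro j _ hj
        by_cases hji : (j : ℕ) < i
        · rw [show c j = 0 from ih j hji j.2 (by omega), zero_smul, map_zero]
        · have : i < (j : ℕ) := lt_of_le_of_ne (not_lt.1 hji) fun e => hj (Fin.ext e.symm)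
          rw [map_smul, ← Module.End.mul_apply, ← pow_add, hkill _ (by omega), smul_zero]
      · simp
  have hinj : Function.Injective L := (injective_iff_map_eq_zero _).2 fun c hc =>
    funext fun i => hvan 0 c (by simpa using hc) i (by simp)
  set R := LinearMap.range L with hR
  have hRY : ∀ v ∈ R, Y v ∈ R := by
    rintro _ ⟨c, rfl⟩
    rw [hLapp, map_sum]
    refine Submodule.sum_mem _ fun i _ => ?_
    rw [map_smul, ← Module.End.mul_apply, ← pow_succ']
    refine Submodule.smul_mem _ _ ?_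
    by_cases hi : (i : ℕ) + 1 < p
    · exact ⟨Pi.single ⟨i + 1, hi⟩ 1, by rw [hLapp]; simp [Pi.single_apply]⟩
    · rw [hkill _ (by omega)]; exact Submodule.zero_mem _
  -- the base group
  let B₀ : Subgroup V :=
    { carrier := {a | h.vec a ∈ R}
      one_mem' := by show h.vec 1 ∈ R; rw [h.vec_one]; exact Submodule.zero_mem _
      mul_mem' := fun {a b} ha hb => by show h.vec (a * b) ∈ R; rw [h.vec_mul]; exact Submodule.add_mem _ ha hb
      inv_mem' := fun {a} ha => by show h.vec a⁻¹ ∈ R; rw [h.vec_inv]; exact Submodule.neg_mem _ ha }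
  set B : Subgroup G := B₀.map V.subtype with hB
  have hBV : B ≤ V := map_subtype_le _
  have hBx : x ∈ normalizer (B : Set G) := HallHigman.mem_normalizer_of_conj_mem (by
    rintro _ ⟨a, ha, rfl⟩
    refine ⟨⟨x * a * x⁻¹, h.normal.conj_mem a a.2 x⟩, ?_, rfl⟩
    show h.vec _ ∈ R
    have he : h.conjRep x (h.vec a) = Y (h.vec a) + h.vec a := by
      rw [hY, LinearMap.sub_apply, Module.End.one_apply, sub_add_cancel]
    rw [← h.conjRep_vec, he]
    exact Submodule.add_mem _ (hRY _ ha) ha)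
  set Wg := B ⊔ zpowers x with hWg
  have hxW : x ∈ Wg := mem_sup_right (mem_zpowers x)
  have hBW : B ≤ Wg := le_sup_left
  have hnorm : Wg ≤ normalizer (B : Set G) := sup_le le_normalizer (Subgroup.zpowers_le.2 hBx)
  have hdis : B ⊓ zpowers x = ⊥ := by
    rw [eq_bot_iff]
    rintro g ⟨hgB, hgx⟩
    rw [mem_bot]
    by_contra hg1
    have h1 : zpowers g = zpowers x := eq_of_le_of_card_ge (Subgroup.zpowers_le.2 hgx) (by
      rw [Nat.card_zpowers, Nat.card_zpowers, hx]
      have h2 : orderOf g ∣ p := by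
        rw [← hx, ← Nat.card_zpowers x]; exact Subgroup.orderOf_dvd_natCard _ hgx
      exact ((hp.out.eq_one_or_self_of_dvd _ h2).resolve_left fun e => hg1 (orderOf_eq_one_iff.1 e)).ge)
    exact hxV (hBV (h1 ▸ Subgroup.zpowers_le.2 hgB <| mem_zpowers x))
  have hcardB : Nat.card B = p ^ p := by
    rw [hB, card_map_of_injective V.subtype_injective]
    calc Nat.card B₀ = Nat.card R :=
          Nat.card_congr (h.vec.subtypeEquiv (p := fun a => a ∈ B₀) (q := fun v => v ∈ R) fun a => Iff.rfl)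
      _ = Nat.card (Fin p → ZMod p) := (Nat.card_congr (LinearEquiv.ofInjective L hinj).toEquiv).symm
      _ = p ^ p := by rw [Nat.card_fun, Nat.card_zmod, Nat.card_fin]
  have hcardW : Nat.card Wg = p ^ (p + 1) := by
    have h1 := Subgroup.card_mul_index (B.subgroupOf Wg)
    have h2 : (B.subgroupOf Wg).index = p := by
      show B.relIndex Wg = p
      rw [hWg, Coprime.relIndex_eq_card_of_sup_eq (A := zpowers x) (Subgroup.zpowers_le.2 hBx) hnorm (by rwa [inf_comm]) (by rw [← sup_assoc, sup_idem]),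
        Nat.card_zpowers, hx]
    rw [h2, Nat.card_congr (subgroupOfEquivOfLe hBW).toEquiv, hcardB] at h1
    rw [pow_succ, h1]
  have hWp : IsPGroup p Wg := IsPGroup.of_card hcardW
  obtain ⟨S, hS⟩ := hWp.exists_le_sylow
  have hBn : (B.subgroupOf Wg).Normal := normal_subgroupOf_of_le_normalizer hnorm
  let e : Wg ≃* Shrink.{0} Wg := Shrink.mulEquiv.symm
  refine ⟨S, Shrink.{0} Wg, inferInstance, inferInstance,
    ⟨(B.subgroupOf Wg).map e.toMonoidHom, e ⟨x, hxW⟩, hBn.map _ e.surjective, ⟨⟨?_⟩⟩, ?_, ?_, ?_, ?_, ?_, ?_⟩, ?_⟩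
  · rintro ⟨_, a, ha, rfl⟩ ⟨_, b, hb, rfl⟩
    exact Subtype.ext (show e a * e b = e b * e a by
      rw [← map_mul, ← map_mul]
      exact congrArg e (Subtype.ext (h.comm _ (hBV ha) _ (hBV hb))))
  · rintro _ ⟨a, ha, rfl⟩
    show e a ^ p = 1
    rw [← map_pow, show a ^ p = 1 from Subtype.ext (h.exponent _ (hBV ha)), map_one]
  · rw [card_map_of_injective (f := e.toMonoidHom) e.injective,
      Nat.card_congr (subgroupOfEquivOfLe hBW).toEquiv, hcardB]
  · rw [MulEquiv.orderOf_eq, orderOf_mk, hx]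
  · rintro ⟨a, ha, hae⟩
    obtain rfl : a = ⟨x, hxW⟩ := e.injective hae
    exact hxV (hBV ha)
  · rw [← Nat.card_congr e.toEquiv, hcardW]
  · -- the centraliser of `x` in the base is one-dimensional
    have h3 : (B.subgroupOf Wg).map e.toMonoidHom ⊓ centralizer ({e ⟨x, hxW⟩} : Set (Shrink.{0} Wg))
        = (B.subgroupOf Wg ⊓ centralizer ({⟨x, hxW⟩} : Set Wg)).map e.toMonoidHom := by
      ext g
      obtain ⟨g, rfl⟩ := e.surjective g
      simp only [mem_inf, mem_map, mem_centralizer_singleton_iff, MulEquiv.coe_toMonoidHom]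
      constructor
      · rintro ⟨⟨a, ha, hag⟩, hc⟩
        obtain rfl := e.injective hag
        exact ⟨a, ⟨ha, e.injective (by rw [map_mul, map_mul, hc])⟩, rfl⟩
      · rintro ⟨a, ⟨ha, hc⟩, hag⟩
        obtain rfl := e.injective hag
        exact ⟨⟨a, ha, rfl⟩, by rw [← map_mul, hc, map_mul]⟩
    rw [h3, card_map_of_injective (f := e.toMonoidHom) e.injective]
    have hp1 : p - 1 < p := by have := hp.out.pos; omega
    set i₀ : Fin p := ⟨p - 1, hp1⟩
    -- match with the multiples of the last basis vector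
    have hv : ∀ c : ZMod p, h.vec.symm (c • (Y ^ (p - 1)) w) ∈ B₀ := fun c => by
      show h.vec (h.vec.symm _) ∈ R
      rw [h.vec.apply_symm_apply]
      exact ⟨Pi.single i₀ c, by
        rw [hLapp, Finset.sum_eq_single i₀ (fun j _ hj => by rw [Pi.single_eq_of_ne hj, zero_smul]) (by simp),
          Pi.single_eq_same]; rfl⟩
    let F : ZMod p → ↥(B.subgroupOf Wg ⊓ centralizer ({⟨x, hxW⟩} : Set Wg)) := fun c =>
      ⟨⟨(h.vec.symm (c • (Y ^ (p - 1)) w) : G), hBW ⟨_, hv c, rfl⟩⟩, ⟨_, hv c, rfl⟩,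
        mem_centralizer_singleton_iff.2 (Subtype.ext (by
          have h1 : Y (c • (Y ^ (p - 1)) w) = 0 := by
            rw [map_smul, ← Module.End.mul_apply, ← pow_succ', hkill _ (by omega), smul_zero]
          obtain ⟨a, ha⟩ := h.vec.surjective (c • (Y ^ (p - 1)) w)
          rw [← ha] at h1
          rw [hY, h.conjRep_sub_one_vec, h.vec_eq_zero] at h1
          show (h.vec.symm (c • (Y ^ (p - 1)) w) : G) * x = x * (h.vec.symm (c • (Y ^ (p - 1)) w) : G)
          rw [show h.vec.symm (c • (Y ^ (p - 1)) w) = a by rw [← ha, Equiv.symm_apply_apply]]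
          exact (mul_inv_eq_iff_eq_mul.1 (mul_inv_eq_one.1 (congrArg Subtype.val h1))).symm))⟩
    have hF : Function.Bijective F := by
      refine ⟨fun c d hcd => ?_, fun ⟨⟨g, hgW⟩, hgB, hgc⟩ => ?_⟩
      · have h1 := congrArg (fun z : ↥(B.subgroupOf Wg ⊓ centralizer ({⟨x, hxW⟩} : Set Wg)) => ((z : Wg) : G)) hcd
        exact smul_left_injective (ZMod p) hw (h.vec.symm.injective (Subtype.ext h1))
      · obtain ⟨a, ⟨c, hc⟩, hag⟩ := (hgB : g ∈ B)
        have h1 : Y (L c) = 0 := by
          rw [hc, hY, h.conjRep_sub_one_vec, h.vec_eq_zero]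
          refine Subtype.ext ?_
          show x * (a : G) * x⁻¹ * (a : G)⁻¹ = 1
          rw [show (a : G) = g from hag, show x * g = g * x from
            (congrArg Subtype.val (mem_centralizer_singleton_iff.1 hgc)).symm, mul_inv_cancel_right,
            mul_inv_cancel]
        refine ⟨c i₀, Subtype.ext (Subtype.ext ?_)⟩
        show ((h.vec.symm (c i₀ • (Y ^ (p - 1)) w)) : G) = g
        refine Eq.trans ?_ hag
        show _ = (a : G)
        rw [show c i₀ • (Y ^ (p - 1)) w = h.vec a from ?_, Equiv.symm_apply_apply]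
        rw [← hc, hLapp, Finset.sum_eq_single i₀]
        · intro j _ hj
          have : (j : ℕ) ≠ p - 1 := fun e => hj (Fin.ext e)
          rw [hvan 1 c (by rwa [pow_one]) j (by omega), zero_smul]
        · simp
    rw [← Nat.card_congr (Equiv.ofBijective F hF), Nat.card_zmod]
  · exact Complement.involves_iff_exists_hom.2 ⟨Wg.subgroupOf (S : Subgroup G),
      e.toMonoidHom.comp (subgroupOfEquivOfLe hS).toMonoidHom,
      e.surjective.comp (subgroupOfEquivOfLe hS).surjective⟩

/-- No section `C_p ≀ C_p` in a Sylow `p`-subgroup, `p` non-exceptional: the `p`-length is at most one. -/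
theorem pSeriesLE_one_of_no_wreath {G : Type u} [Group G] [Finite G] (hs : Cfsg.IsPSolvable p G)
    (hne : ¬ ∃ q a b : ℕ, q.Prime ∧ q ≠ p ∧ 1 ≤ a ∧ 1 ≤ b ∧ p ^ a = q ^ b + 1)
    (hwr : ∀ (S : Sylow p G) (W : Type) [Group W] [Finite W], IsWreathCp p W →
      ¬ Cfsg.Involves W (S : Subgroup G)) : PSeriesLE p 1 G := by
  refine pSeriesLE_of_descent (fun G _ k => (k = 0 ∧ (Nat.card G).Coprime p) ∨ (k = 1 ∧
    ∀ (S : Sylow p G) (W : Type) [Group W] [Finite W], IsWreathCp p W → ¬ Cfsg.Involves W (S : Subgroup G)))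
    ?_ ?_ ?_ _ G le_rfl hs 1 (Or.inr ⟨rfl, hwr⟩)
  · rintro G _ _ N _ k (⟨rfl, h⟩ | ⟨rfl, h⟩)
    · exact Or.inl ⟨rfl, h.coprime_dvd_left (Subgroup.card_quotient_dvd_card N)⟩
    · refine Or.inr ⟨rfl, fun S W _ _ hW hi => ?_⟩
      obtain ⟨P, φ, hφ⟩ := exists_sylow_surjective (QuotientGroup.mk'_surjective N) S
      exact h P W hW (involves_of_surjective hφ hi)
  · rintro G _ _ (⟨-, h⟩ | ⟨h, -⟩)
    · exact h
    · omega
  · rintro G _ _ V M k hVM hs (⟨h, -⟩ | ⟨hk, h⟩)
    · omega
    obtain rfl : k = 0 := by omega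
    refine Or.inl ⟨rfl, Nat.coprime_comm.1 (hp.out.coprime_iff_not_dvd.2 fun hd => ?_)⟩
    obtain ⟨x, hx⟩ := exists_prime_orderOf_dvd_card' p hd
    have hN := hVM.elemNormal
    set ρ := hN.conjRep.comp M.subtype
    have hinj : Function.Injective ρ := (injective_iff_map_eq_one _).2 fun m hm => Subtype.ext (by
      have hmem : (m : G) ∈ V ⊓ M := ⟨hVM.centralizer_le (mem_centralizer_iff.2 fun a ha =>
        (hN.conjRep_eq_one.1 hm a ha).symm), m.2⟩
      rwa [hVM.inf_eq, mem_bot] at hmem)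
    by_cases hz : (ρ x - 1) ^ (p - 1) = 0
    · obtain ⟨q, Q, hq, hqp, -, -, h1 | ⟨a, b, ha, -, hb, hab, -⟩⟩ :=
        HallHigman.exceptional_of_isPSolvable ρ hinj (isPSolvable_subgroup hs M) hVM.pCore_complement
          le_rfl (by rw [pow_one, hx]) hz
      · rw [pow_one] at h1
        have := hp.out.pos
        omega
      · exact hne ⟨q, a, b, hq, hqp, ha, hb, hab⟩
    obtain ⟨w, hw⟩ : ∃ w, ((hN.conjRep (x : G) - 1) ^ (p - 1)) w ≠ 0 := by
      by_contra hc
      push Not at hc
      exact hz (LinearMap.ext hc)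
    have hxV : (x : G) ∉ V := fun hV => by
      have hmem : (x : G) ∈ V ⊓ M := ⟨hV, x.2⟩
      rw [hVM.inf_eq, mem_bot, OneMemClass.coe_eq_one] at hmem
      rw [hmem, orderOf_one] at hx
      exact hp.out.one_lt.ne hx
    obtain ⟨S, W, _, _, hW, hi⟩ := exists_wreath hN (by rwa [Subgroup.orderOf_coe]) hxV hw
    exact h S W hW hi

end CfsgLib.PLength
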